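import Cfsg.Agent.Lib.GW.Dne.Mixed.Cubic.Coords

/-!
# A mixed prime, extraspecial case: the action on `Q / Z`
-/

set_option autoImplicit false

namespace CfsgLib.GW.Dne.CubicBasis

open Subgroup CfsgLib.GW
open scoped MatrixGroups
open CfsgLib.Signalizer (involution_sq involution_inv involution_ne_one orderOf_eq_two_of orderOf_conj)

universe u

variable {G : Type u} [Group G] [Finite G]
variable {σ : Hyp G} {t u₁ u₂ g₁ g₂ : G} {r : ℕ} {y w v : G} (B : CubicBasis σ t u₁ u₂ g₁ g₂ r y w v)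
include B

theorem crd_word (x : Fin 2 → ZMod r) : crd r y v w (word r y v x) = x := B.crd_eq (by simp)

omit B [Finite G] in
theorem conj_mem_core {n q : G} (hn : n ∈ normalizer (rCore r t : Set G)) (hq : q ∈ rCore r t) :
    n * q * n⁻¹ ∈ rCore r t := (mem_normalizer_iff.1 hn q).1 hq

theorem conj_center {n z : G} (hn : n ∈ normalizer (rCore r t : Set G)) (hz : z ∈ zpowers w) :
    n * z * n⁻¹ ∈ zpowers w := by
  obtain ⟨hzQ, hzc⟩ := (B.cubic.mem_center_iff').1 hz
  refine (B.cubic.mem_center_iff').2 ⟨conj_mem_core hn hzQ, fun q hq => ?_⟩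
  have h := (hzc _ (conj_mem_core (inv_mem hn) hq)).map (MulAut.conj n).toMonoidHom
  simpa [mul_assoc] using h

theorem crd_congr {p q : G} (hq : q ∈ rCore r t) (h : p⁻¹ * q ∈ zpowers w) (hp : p ∈ rCore r t) :
    crd r y v w q = crd r y v w p := by
  rw [show q = p * (p⁻¹ * q) by group, B.crd_mul hp ((zpowers_le.2 B.cubic.w_mem) h),
    (B.crd_eq_zero_iff ((zpowers_le.2 B.cubic.w_mem) h)).2 h, add_zero]

/-- The additive map induced by an element of the normaliser. -/
noncomputable def T (n : normalizer (rCore r t : Set G)) : (Fin 2 → ZMod r) →+ (Fin 2 → ZMod r) where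
  toFun x := crd r y v w ((n : G) * word r y v x * (n : G)⁻¹)
  map_zero' := by simp [word, B.crd_one]
  map_add' x x' := by
    have h1 : crd r y v w (word r y v x * word r y v x') = x + x' := by
      rw [B.crd_mul (B.word_mem x) (B.word_mem x'), B.crd_word, B.crd_word]
    have h2 := B.crd_spec (mul_mem (B.word_mem x) (B.word_mem x'))
    rw [h1] at h2
    rw [← B.crd_mul (conj_mem_core n.2 (B.word_mem x)) (conj_mem_core n.2 (B.word_mem x'))]
    refine (B.crd_congr (mul_mem (conj_mem_core n.2 (B.word_mem x)) (conj_mem_core n.2 (B.word_mem x'))) ?_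
      (conj_mem_core n.2 (B.word_mem _))).symm
    convert B.conj_center n.2 h2 using 1
    group

theorem T_crd (n : normalizer (rCore r t : Set G)) {q : G} (hq : q ∈ rCore r t) :
    B.T n (crd r y v w q) = crd r y v w ((n : G) * q * (n : G)⁻¹) := by
  show crd r y v w _ = _
  refine (B.crd_congr (conj_mem_core n.2 hq) ?_ (conj_mem_core n.2 (B.word_mem _))).symm
  convert B.conj_center n.2 (B.crd_spec hq) using 1
  group

/-- The action of the normaliser as matrices. -/
noncomputable def M : normalizer (rCore r t : Set G) →* Matrix (Fin 2) (Fin 2) (ZMod r) where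
  toFun n := LinearMap.toMatrix' ((B.T n).toZModLinearMap r)
  map_one' := by
    rw [← LinearMap.toMatrix'_id]
    refine congrArg _ (LinearMap.ext fun x => ?_)
    show crd r y v w _ = x
    simp [B.crd_word]
  map_mul' m n := by
    rw [← LinearMap.toMatrix'_comp]
    refine congrArg _ (LinearMap.ext fun x => ?_)
    show B.T (m * n) x = B.T m (B.T n x)
    have h := B.T_crd n (B.word_mem x)
    rw [B.crd_word] at h
    rw [h, B.T_crd m (conj_mem_core n.2 (B.word_mem x))]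
    show crd r y v w _ = _
    congr 1
    simp [mul_assoc]

theorem M_mulVec (n : normalizer (rCore r t : Set G)) {q : G} (hq : q ∈ rCore r t) :
    Matrix.mulVec (B.M n) (crd r y v w q) = crd r y v w ((n : G) * q * (n : G)⁻¹) := by
  show Matrix.mulVec (LinearMap.toMatrix' _) _ = _
  rw [LinearMap.toMatrix'_mulVec]
  exact B.T_crd n hq

theorem M_col_y (n : normalizer (rCore r t : Set G)) (i : Fin 2) :
    B.M n i 0 = crd r y v w ((n : G) * y * (n : G)⁻¹) i := by
  rw [← B.M_mulVec n B.cubic.y_mem, B.crd_y, Matrix.mulVec_single_one]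
  rfl

theorem M_col_v (n : normalizer (rCore r t : Set G)) (i : Fin 2) :
    B.M n i 1 = crd r y v w ((n : G) * v * (n : G)⁻¹) i := by
  rw [← B.M_mulVec n B.v_mem, B.crd_v, Matrix.mulVec_single_one]
  rfl

/-- Commutators only depend on the coordinates. -/
theorem mul_comm_crd {p q : G} (hp : p ∈ rCore r t) (hq : q ∈ rCore r t) :
    p * q * (v * y * v⁻¹ * y⁻¹) ^ ((crd r y v w p 0).val * (crd r y v w q 1).val) =
      q * p * (v * y * v⁻¹ * y⁻¹) ^ ((crd r y v w q 0).val * (crd r y v w p 1).val) := by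
  set e := v * y * v⁻¹ * y⁻¹ with he
  set a := (crd r y v w p 0).val
  set b := (crd r y v w p 1).val
  set a' := (crd r y v w q 0).val
  set b' := (crd r y v w q 1).val
  have hec : ∀ s ∈ rCore r t, Commute s e :=
    ((B.cubic.mem_center_iff').1 (B.cubic.commutator_mem B.v_mem B.cubic.y_mem)).2
  obtain ⟨z, hz⟩ : ∃ z, z = (y ^ a * v ^ b)⁻¹ * p := ⟨_, rfl⟩
  obtain ⟨z', hz'⟩ : ∃ z', z' = (y ^ a' * v ^ b')⁻¹ * q := ⟨_, rfl⟩
  have hzc : ∀ s ∈ rCore r t, Commute s z :=
    hz ▸ ((B.cubic.mem_center_iff').1 (B.crd_spec hp)).2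
  have hzc' : ∀ s ∈ rCore r t, Commute s z' :=
    hz' ▸ ((B.cubic.mem_center_iff').1 (B.crd_spec hq)).2
  have hpe : p = y ^ a * v ^ b * z := by rw [hz]; group
  have hqe : q = y ^ a' * v ^ b' * z' := by rw [hz']; group
  have hy : ∀ n : ℕ, y ^ n ∈ rCore r t := fun n => pow_mem B.cubic.y_mem n
  have hv : ∀ n : ℕ, v ^ n ∈ rCore r t := fun n => pow_mem B.v_mem n
  have key : ∀ (a b a' b' : ℕ) (z z' : G), (∀ s ∈ rCore r t, Commute s z) → (z' ∈ rCore r t) →
      y ^ a * v ^ b * z * (y ^ a' * v ^ b' * z') = e ^ (a' * b) * (y ^ (a + a') * v ^ (b + b') * (z * z')) := by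
    intro a b a' b' z z' hzc hz'Q
    calc y ^ a * v ^ b * z * (y ^ a' * v ^ b' * z')
        = y ^ a * v ^ b * (z * (y ^ a' * v ^ b')) * z' := by group
      _ = y ^ a * (v ^ b * y ^ a') * v ^ b' * (z * z') := by
        rw [← (hzc _ (mul_mem (hy a') (hv b'))).eq]; group
      _ = (y ^ a * e ^ (a' * b)) * (y ^ a' * v ^ b) * v ^ b' * (z * z') := by rw [B.swap_pow, ← he]; group
      _ = e ^ (a' * b) * (y ^ (a + a') * v ^ (b + b') * (z * z')) := by
        rw [((hec _ (hy a)).pow_right _).eq, pow_add, pow_add]; simp only [mul_assoc]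
  have hzQ : z ∈ rCore r t := hz ▸ (zpowers_le.2 B.cubic.w_mem) (B.crd_spec hp)
  have hz'Q : z' ∈ rCore r t := hz' ▸ (zpowers_le.2 B.cubic.w_mem) (B.crd_spec hq)
  have h1 := key a b a' b' z z' hzc hz'Q
  have h2 := key a' b' a b z' z hzc' hzQ
  rw [← hpe, ← hqe] at h1 h2
  rw [h1, h2, add_comm a' a, add_comm b' b, (hzc' z hzQ).eq]
  set X := y ^ (a + a') * v ^ (b + b') * (z' * z)
  have hX : Commute X e := hec _ (mul_mem (mul_mem (hy _) (hv _)) (mul_mem hz'Q hzQ))
  rw [mul_assoc, (hX.pow_right (a * b')).eq, mul_assoc _ X, (hX.pow_right (a' * b)).eq, ← mul_assoc, ← mul_assoc,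
    ((Commute.refl e).pow_pow (a' * b) (a * b')).eq]
  simp only [X, mul_assoc]

omit B [Finite G] in
theorem U_le_normalizer_core [Finite G] {h : G} (hh : h ∈ U t) : h ∈ normalizer (rCore r t : Set G) :=
  centralizer_le_normalizer_rCore r t (U_le t hh)

theorem det_M {h : G} (hh : h ∈ U t) : (B.M ⟨h, U_le_normalizer_core hh⟩).det = 1 := by
  have := Fact.mk B.cubic.prime
  set n : normalizer (rCore r t : Set G) := ⟨h, U_le_normalizer_core hh⟩
  set e := v * y * v⁻¹ * y⁻¹ with he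
  have hpQ := conj_mem_core n.2 B.cubic.y_mem
  have hqQ := conj_mem_core n.2 B.v_mem
  obtain ⟨k, hk⟩ := B.cubic.commutator_mem B.v_mem B.cubic.y_mem
  have heZ : e ∈ zpowers w := ⟨k, hk⟩
  have hhe : Commute h e := by rw [he, ← hk]; exact (B.cubic.w_U h hh).zpow_right k
  have hcz : (h * v * h⁻¹) * (h * y * h⁻¹) = e * ((h * y * h⁻¹) * (h * v * h⁻¹)) := by
    calc (h * v * h⁻¹) * (h * y * h⁻¹) = h * e * h⁻¹ * ((h * y * h⁻¹) * (h * v * h⁻¹)) := by rw [he]; group
      _ = e * ((h * y * h⁻¹) * (h * v * h⁻¹)) := by rw [conj_eq_of_commute hhe]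
  have key := B.mul_comm_crd hpQ hqQ
  rw [← he] at key
  set i := (crd r y v w ((n : G) * y * (n : G)⁻¹) 0).val * (crd r y v w ((n : G) * v * (n : G)⁻¹) 1).val
  set j := (crd r y v w ((n : G) * v * (n : G)⁻¹) 0).val * (crd r y v w ((n : G) * y * (n : G)⁻¹) 1).val
  change (h * y * h⁻¹) * (h * v * h⁻¹) * e ^ i = (h * v * h⁻¹) * (h * y * h⁻¹) * e ^ j at key
  have hc : Commute ((h * y * h⁻¹) * (h * v * h⁻¹)) e := ((B.cubic.mem_center_iff').1 heZ).2 _ (mul_mem hpQ hqQ)
  rw [hcz, ← hc.eq, mul_assoc _ e, ← pow_succ'] at key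
  have key' := mul_left_cancel key
  have ho : orderOf e = r := by
    have hd : orderOf e ∣ r := orderOf_dvd_of_pow_eq_one (by
      rw [he, ← hk]
      show (w ^ k) ^ r = 1
      rw [← zpow_natCast, ← zpow_mul, mul_comm, zpow_mul, zpow_natCast, ← B.cubic.w_order, pow_orderOf_eq_one, one_zpow])
    exact ((Nat.dvd_prime B.cubic.prime).1 hd).resolve_left fun h1 => B.comm_ne (orderOf_eq_one_iff.1 h1)
  have hmod := pow_eq_pow_iff_modEq.1 key'
  rw [ho, ← ZMod.natCast_eq_natCast_iff] at hmod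
  simp only [i, j, Nat.cast_mul, Nat.cast_add, Nat.cast_one, ZMod.natCast_zmod_val] at hmod
  rw [Matrix.det_fin_two, B.M_col_y, B.M_col_y, B.M_col_v, B.M_col_v]
  linear_combination hmod

/-- The action of `O(C(t))`. -/
noncomputable def φ : U t →* SL(2, ZMod r) where
  toFun h := ⟨B.M ⟨h, U_le_normalizer_core h.2⟩, B.det_M h.2⟩
  map_one' := Subtype.ext (map_one B.M)
  map_mul' a b := Subtype.ext (map_mul B.M ⟨a, U_le_normalizer_core a.2⟩ ⟨b, U_le_normalizer_core b.2⟩)

theorem φ_mulVec (h : U t) {q : G} (hq : q ∈ rCore r t) :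
    Matrix.mulVec (B.φ h : Matrix (Fin 2) (Fin 2) (ZMod r)) (crd r y v w q) = crd r y v w ((h : G) * q * (h : G)⁻¹) :=
  B.M_mulVec _ hq

/-- The reflection of the basis. -/
theorem M_reflect {u : G} (hu : u ∈ normalizer (rCore r t : Set G))
    (hy : u * y * u⁻¹ = y) (hv : u * v * u⁻¹ = v⁻¹) : B.M ⟨u, hu⟩ = !![1, 0; 0, -1] := by
  ext i j
  fin_cases j
  · show B.M _ i 0 = _
    rw [B.M_col_y]
    show crd r y v w (u * y * u⁻¹) i = _
    rw [hy, B.crd_y]
    fin_cases i <;> simp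
  · show B.M _ i 1 = _
    rw [B.M_col_v]
    show crd r y v w (u * v * u⁻¹) i = _
    rw [hv, B.crd_inv B.v_mem, B.crd_v]
    fin_cases i <;> simp

theorem M_trivial {u : G} (hu : u ∈ normalizer (rCore r t : Set G))
    (hy : u * y * u⁻¹ = y) (hv : u * v * u⁻¹ = v) : B.M ⟨u, hu⟩ = 1 := by
  ext i j
  fin_cases j
  · show B.M _ i 0 = _
    rw [B.M_col_y]
    show crd r y v w (u * y * u⁻¹) i = _
    rw [hy, B.crd_y]
    fin_cases i <;> simp
  · show B.M _ i 1 = _
    rw [B.M_col_v]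
    show crd r y v w (u * v * u⁻¹) i = _
    rw [hv, B.crd_v]
    fin_cases i <;> simp

theorem φ_conj {u : G} (hu : u ∈ normalizer (rCore r t : Set G)) (hut : Commute u t) (h : U t) :
    (B.φ ⟨u * h * u⁻¹, conj_mem_U_of_commute hut h.2⟩ : Matrix (Fin 2) (Fin 2) (ZMod r)) =
      B.M ⟨u, hu⟩ * (B.φ h : Matrix (Fin 2) (Fin 2) (ZMod r)) * B.M ⟨u⁻¹, inv_mem hu⟩ := by
  show B.M _ = B.M _ * B.M _ * B.M _
  rw [← map_mul, ← map_mul]
  rfl

end CfsgLib.GW.Dne.CubicBasis
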