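import Cfsg.Agent.Lib.GW.Dne.Mixed.CubicDef
import Mathlib.LinearAlgebra.Matrix.ToLin
import Mathlib.LinearAlgebra.Matrix.SpecialLinearGroup
import Mathlib.GroupTheory.PGroup

/-!
# A mixed prime, extraspecial case: coordinates on `Q / Z` and the action of the normaliser
-/

set_option autoImplicit false

namespace CfsgLib.GW.Dne.Cubic

open Subgroup CfsgLib.GW
open CfsgLib.Signalizer (involution_sq involution_inv involution_ne_one orderOf_eq_two_of orderOf_conj)

universe u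

variable {G : Type u} [Group G] [Finite G]
variable {σ : Hyp G} {t u₁ u₂ g₁ g₂ : G} {r : ℕ} {y w : G} (E : Cubic σ t u₁ u₂ g₁ g₂ r y w)
include E

theorem prime : r.Prime := E.axis.mixed.prime

theorem w_mem : w ∈ rCore r t := E.axis.w_mem

theorem y_mem : y ∈ rCore r t := E.axis.y_mem.1

theorem y_comm : Commute y u₁ := (Mixed.mem_fixedQ.1 E.axis.y_mem).2

theorem mem_center_iff' {z : G} : z ∈ zpowers w ↔ z ∈ rCore r t ∧ ∀ q ∈ rCore r t, Commute q z := by
  constructor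
  · rintro ⟨k, rfl⟩
    exact ⟨zpow_mem E.w_mem k, fun q hq => (E.w_centre q hq).zpow_right k⟩
  · exact fun h => E.centre_le z h.1 h.2

theorem pow_w_inv {z : G} (hz : z ∈ zpowers w) : u₁ * z * u₁⁻¹ = z⁻¹ := by
  obtain ⟨k, rfl⟩ := hz
  exact inverted_zpow E.axis.w_inv k

/-- An element of `Z` fixed by `u₁` is trivial. -/
theorem eq_one_of_fixed_center {z : G} (hz : z ∈ zpowers w) (hu : Commute z u₁) : z = 1 :=
  eq_one_of_fixed_inverted (odd_orderOf_of_mem E.axis.mixed.odd_Q ((zpowers_le.2 E.w_mem) hz)) hu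
    (E.pow_w_inv hz)

/-- The centre as a subgroup of `Q`. -/
@[reducible] noncomputable def Zc (_E : Cubic σ t u₁ u₂ g₁ g₂ r y w) : Subgroup (rCore r t) := (zpowers w).subgroupOf (rCore r t)

theorem Zc_normal : (E.Zc).Normal :=
  ⟨fun z hz q => by
    have hc : Commute (q : G) (z : G) := E.w_centre _ q.2 |> fun h => by
      obtain ⟨k, hk⟩ := mem_subgroupOf.1 hz
      rw [← hk]; exact h.zpow_right k
    rw [mem_subgroupOf]
    show (q : G) * z * (q : G)⁻¹ ∈ zpowers w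
    rw [conj_eq_of_commute hc]; exact hz⟩

theorem card_quot : Nat.card (rCore r t ⧸ E.Zc) = r ^ 2 := by
  have h := E.Zc.card_mul_index
  rw [Nat.card_congr (subgroupOfEquivOfLe (zpowers_le.2 E.w_mem)).toEquiv, Nat.card_zpowers, E.w_order, E.card_Q,
    Subgroup.index_eq_card] at h
  exact Nat.eq_of_mul_eq_mul_left E.prime.pos (by rw [h]; ring)

theorem nonab : ∃ a ∈ rCore r t, ∃ b ∈ rCore r t, ¬ Commute a b := by
  by_contra hcon
  push Not at hcon
  have hle : rCore r t ≤ zpowers w := fun q hq => E.centre_le q hq fun p hp => hcon p hp q hq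
  have h := card_dvd_of_le hle
  rw [E.card_Q, Nat.card_zpowers, E.w_order] at h
  have := Nat.le_of_dvd E.prime.pos h
  have h2 := E.prime.two_le
  nlinarith [Nat.pow_le_pow_right E.prime.pos (show 2 ≤ 3 by norm_num)]

theorem commutator_mem {a b : G} (ha : a ∈ rCore r t) (hb : b ∈ rCore r t) : a * b * a⁻¹ * b⁻¹ ∈ zpowers w := by
  have := Fact.mk E.prime
  have := E.Zc_normal
  let := IsPGroup.commGroupOfCardEqPrimeSq (G := rCore r t ⧸ E.Zc) (p := r) E.card_quot
  have h : ((⟨a, ha⟩ * ⟨b, hb⟩ * ⟨a, ha⟩⁻¹ * ⟨b, hb⟩⁻¹ : rCore r t) : rCore r t ⧸ E.Zc) = 1 := by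
    rw [QuotientGroup.mk_mul, QuotientGroup.mk_mul, QuotientGroup.mk_mul, QuotientGroup.mk_inv, QuotientGroup.mk_inv,
      mul_comm (((⟨a, ha⟩ : rCore r t) : rCore r t ⧸ E.Zc)) (((⟨b, hb⟩ : rCore r t) : rCore r t ⧸ E.Zc))]
    simp
  exact mem_subgroupOf.1 ((QuotientGroup.eq_one_iff _).1 h)

theorem pow_mem_center {q : G} (hq : q ∈ rCore r t) : q ^ r ∈ zpowers w := by
  have := Fact.mk E.prime
  have := E.Zc_normal
  by_contra hno
  have ho : orderOf ((⟨q, hq⟩ : rCore r t) : rCore r t ⧸ E.Zc) = r ^ 2 := by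
    refine (orderOf_eq_prime_pow (p := r) (n := 1) (fun e => hno ?_) ?_)
    · rw [pow_one, ← QuotientGroup.mk_pow] at e
      exact mem_subgroupOf.1 ((QuotientGroup.eq_one_iff _).1 e)
    · rw [← E.card_quot]; exact pow_card_eq_one'
  have hcyc : IsCyclic (rCore r t ⧸ E.Zc) := isCyclic_of_orderOf_eq_card _ (ho.trans E.card_quot.symm)
  obtain ⟨a, ha, b, hb, hab⟩ := E.nonab
  refine hab (congrArg Subtype.val (commutative_of_cyclic_center_quotient (QuotientGroup.mk' E.Zc) ?_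
    (⟨a, ha⟩ : rCore r t) ⟨b, hb⟩))
  rw [QuotientGroup.ker_mk']
  intro z hz
  rw [mem_center_iff]
  exact fun p => Subtype.ext (((E.mem_center_iff').1 (mem_subgroupOf.1 hz)).2 _ p.2).eq

theorem exists_v : ∃ v ∈ rCore r t, u₁ * v * u₁⁻¹ = v⁻¹ ∧ v ∉ zpowers w := by
  by_contra hcon
  push Not at hcon
  have hle : rCore r t ≤ zpowers y ⊔ zpowers w := by
    intro q hq
    obtain ⟨c, hc, i, hi, hiu, rfl⟩ := E.axis.mixed.decompQ hq
    rw [E.fixed_eq] at hc
    exact mul_mem (mem_sup_left hc) (mem_sup_right (hcon i hi hiu))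
  obtain ⟨a, ha, b, hb, hab⟩ := E.nonab
  refine hab ?_
  have hsup : zpowers y ⊔ zpowers w ≤ centralizer ({y, w} : Set G) := by
    refine sup_le (zpowers_le.2 ?_) (zpowers_le.2 ?_) <;> rw [mem_centralizer_iff] <;>
      rintro p (rfl | rfl)
    exacts [rfl, (E.axis.commute_yw).symm.eq, (E.axis.commute_yw).eq, rfl]
  have hac := hsup (hle ha)
  have hsub : zpowers y ⊔ zpowers w ≤ centralizer ({a} : Set G) := by
    refine sup_le (zpowers_le.2 ?_) (zpowers_le.2 ?_) <;> rw [mem_centralizer_singleton_iff]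
    · exact mem_centralizer_iff.1 hac y (by simp)
    · exact mem_centralizer_iff.1 hac w (by simp)
  exact (mem_centralizer_singleton_iff.1 (hsub (hle hb))).symm

end CfsgLib.GW.Dne.Cubic

namespace CfsgLib.GW.Dne

open Subgroup CfsgLib.GW

universe u

variable {G : Type u} [Group G] [Finite G]

/-- `v` completes `y` to a basis of `Q / Z`. -/
structure CubicBasis (σ : Hyp G) (t u₁ u₂ g₁ g₂ : G) (r : ℕ) (y w v : G) : Prop where
  cubic : Cubic σ t u₁ u₂ g₁ g₂ r y w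
  v_mem : v ∈ rCore r t
  v_inv : u₁ * v * u₁⁻¹ = v⁻¹
  v_not : v ∉ zpowers w

namespace CubicBasis

variable {σ : Hyp G} {t u₁ u₂ g₁ g₂ : G} {r : ℕ} {y w v : G} (B : CubicBasis σ t u₁ u₂ g₁ g₂ r y w v)
include B

theorem comm_ne : v * y * v⁻¹ * y⁻¹ ≠ 1 := fun e => by
  refine B.v_not (B.cubic.axis.inv_gen v B.v_mem B.v_inv ?_)
  rw [mul_inv_eq_one, mul_inv_eq_iff_eq_mul] at e
  exact e

theorem v_pow_iff {k : ℤ} : v ^ k ∈ zpowers w ↔ (r : ℤ) ∣ k := by
  constructor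
  · intro hk
    by_contra hnd
    have hcop : Int.gcd k r = 1 := by
      rcases (Nat.dvd_prime B.cubic.prime).1 (Int.natCast_dvd_natCast.1 (Int.gcd_dvd_right k r)) with h | h
      · exact h
      · exact absurd (h ▸ Int.gcd_dvd_left k r) hnd
    refine B.v_not ?_
    have hb := Int.gcd_eq_gcd_ab k r
    rw [hcop, Nat.cast_one] at hb
    have h1 : v = (v ^ k) ^ Int.gcdA k r * (v ^ r) ^ Int.gcdB k r := by
      rw [← zpow_natCast, ← zpow_mul, ← zpow_mul, ← zpow_add, ← hb, zpow_one]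
    rw [h1]
    exact mul_mem (zpow_mem hk _) (zpow_mem (B.cubic.pow_mem_center B.v_mem) _)
  · rintro ⟨j, rfl⟩
    rw [zpow_mul, zpow_natCast]
    exact zpow_mem (B.cubic.pow_mem_center B.v_mem) j

omit B in
/-- The combination `y ^ a * v ^ b`. -/
noncomputable def word (r : ℕ) (y v : G) (x : Fin 2 → ZMod r) : G := y ^ (x 0).val * v ^ (x 1).val

theorem word_mem (x : Fin 2 → ZMod r) : word r y v x ∈ rCore r t :=
  mul_mem (pow_mem B.cubic.y_mem _) (pow_mem B.v_mem _)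

theorem word_inj {x x' : Fin 2 → ZMod r} (h : (word r y v x)⁻¹ * word r y v x' ∈ zpowers w) : x = x' := by
  have := Fact.mk B.cubic.prime
  set a := (x 0).val; set b := (x 1).val; set a' := (x' 0).val; set b' := (x' 1).val
  have hd : v ^ (-(b : ℤ)) * y ^ ((a' : ℤ) - a) * v ^ (b' : ℤ) ∈ zpowers w := by
    have e : (word r y v x)⁻¹ * word r y v x' = v ^ (-(b : ℤ)) * y ^ ((a' : ℤ) - a) * v ^ (b' : ℤ) := by
      rw [word, word]
      group
      simp only [a, a', b, b']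
      group
    rwa [e] at h
  -- conjugate by `v ^ b`, a member of `Q`, and split by the involution
  have hd2 : y ^ ((a' : ℤ) - a) * v ^ ((b' : ℤ) - b) ∈ zpowers w := by
    obtain ⟨k, hk⟩ := hd
    have hc := (B.cubic.w_centre (v ^ (b : ℤ)) (zpow_mem B.v_mem _)).zpow_right k
    have hk' : y ^ ((a' : ℤ) - a) * v ^ ((b' : ℤ) - b) = v ^ (b : ℤ) * (v ^ (-(b : ℤ)) * y ^ ((a' : ℤ) - a) * v ^ (b' : ℤ)) * (v ^ (b : ℤ))⁻¹ := by
      group
    rw [hk', ← hk, conj_eq_of_commute hc]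
    exact ⟨k, rfl⟩
  have hu : u₁ * (y ^ ((a' : ℤ) - a) * v ^ ((b' : ℤ) - b)) * u₁⁻¹ = y ^ ((a' : ℤ) - a) * (v ^ ((b' : ℤ) - b))⁻¹ := by
    rw [show u₁ * (y ^ ((a' : ℤ) - a) * v ^ ((b' : ℤ) - b)) * u₁⁻¹ =
      (u₁ * y ^ ((a' : ℤ) - a) * u₁⁻¹) * (u₁ * v ^ ((b' : ℤ) - b) * u₁⁻¹) by group,
      conj_eq_of_commute (B.cubic.y_comm.zpow_left _).symm, inverted_zpow B.v_inv]
  rw [B.cubic.pow_w_inv hd2, mul_inv_rev] at hu
  have hb : v ^ (((b' : ℤ) - b) + ((b' : ℤ) - b)) ∈ zpowers w := by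
    have e : v ^ (((b' : ℤ) - b) + ((b' : ℤ) - b)) =
        (y ^ ((a' : ℤ) - a) * (v ^ ((b' : ℤ) - b))⁻¹)⁻¹ * (y ^ ((a' : ℤ) - a) * v ^ ((b' : ℤ) - b)) := by
      rw [zpow_add]; group
    rw [e, ← hu, ← mul_inv_rev, inv_inv]
    exact mul_mem hd2 hd2
  rw [B.v_pow_iff] at hb
  have hb' : x' 1 = x 1 := by
    have h2 : (r : ℤ) ∣ ((b' : ℤ) - b) := by
      have hcop : IsCoprime (r : ℤ) 2 := Int.isCoprime_iff_nat_coprime.2
        (B.cubic.prime.coprime_iff_not_dvd.2 fun h2 =>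
          B.cubic.axis.mixed.ne_two ((Nat.prime_dvd_prime_iff_eq B.cubic.prime Nat.prime_two).1 h2))
      exact hcop.dvd_of_dvd_mul_left (by rwa [two_mul])
    have := (ZMod.intCast_zmod_eq_zero_iff_dvd _ r).2 h2
    simpa [b, b', sub_eq_zero] using this
  have hy : y ^ ((a' : ℤ) - a) = 1 := by
    refine B.cubic.eq_one_of_fixed_center ?_ (B.cubic.y_comm.zpow_left _)
    have : b' = b := congrArg ZMod.val hb'
    simpa [this] using hd2
  have ha' : x' 0 = x 0 := by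
    have h3 := orderOf_dvd_iff_zpow_eq_one.2 hy
    rw [B.cubic.axis.y_order] at h3
    have := (ZMod.intCast_zmod_eq_zero_iff_dvd _ r).2 h3
    simpa [a, a', sub_eq_zero] using this
  ext i
  fin_cases i
  · exact ha'.symm
  · exact hb'.symm

theorem exists_word {q : G} (hq : q ∈ rCore r t) : ∃ x, (word r y v x)⁻¹ * q ∈ zpowers w := by
  have := Fact.mk B.cubic.prime
  let f : (Fin 2 → ZMod r) → rCore r t ⧸ B.cubic.Zc := fun x => ((⟨word r y v x, B.word_mem x⟩ : rCore r t) : _)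
  have hf : Function.Bijective f := by
    refine (Nat.bijective_iff_injective_and_card f).2 ⟨fun x x' h => B.word_inj ?_, ?_⟩
    · exact mem_subgroupOf.1 (QuotientGroup.eq.1 h)
    · rw [B.cubic.card_quot, Nat.card_fun, Nat.card_zmod, Nat.card_fin]
  obtain ⟨x, hx⟩ := hf.2 ((⟨q, hq⟩ : rCore r t) : _)
  exact ⟨x, mem_subgroupOf.1 (QuotientGroup.eq.1 hx)⟩

omit B in
open scoped _root_.Classical in
/-- The coordinates modulo `Z`. -/
noncomputable def crd (r : ℕ) (y v w : G) (q : G) : Fin 2 → ZMod r :=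
  if h : ∃ x, (word r y v x)⁻¹ * q ∈ zpowers w then h.choose else 0

theorem crd_eq {q : G} {x : Fin 2 → ZMod r} (h : (word r y v x)⁻¹ * q ∈ zpowers w) : crd r y v w q = x := by
  have he : ∃ x, (word r y v x)⁻¹ * q ∈ zpowers w := ⟨x, h⟩
  rw [crd, dif_pos he]
  refine B.word_inj ?_
  have := mul_mem he.choose_spec (inv_mem h)
  simpa [mul_assoc] using this

theorem crd_spec {q : G} (hq : q ∈ rCore r t) : (word r y v (crd r y v w q))⁻¹ * q ∈ zpowers w := by
  obtain ⟨x, hx⟩ := B.exists_word hq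
  rwa [B.crd_eq hx]

theorem crd_one : crd r y v w (1 : G) = 0 := B.crd_eq (by simp [word])

theorem crd_eq_zero_iff {q : G} (hq : q ∈ rCore r t) : crd r y v w q = 0 ↔ q ∈ zpowers w :=
  ⟨fun h => by simpa [h, word] using B.crd_spec hq, fun h => B.crd_eq (by simpa [word] using h)⟩

theorem crd_y : crd r y v w y = Pi.single 0 1 := B.crd_eq (by
  have := Fact.mk B.cubic.prime
  simp [word, ZMod.val_one])

theorem crd_v : crd r y v w v = Pi.single 1 1 := B.crd_eq (by
  have := Fact.mk B.cubic.prime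
  simp [word, ZMod.val_one])

/-- `v ^ b y ^ a = e ^ (a b) y ^ a v ^ b`. -/
theorem swap_pow (a b : ℕ) :
    v ^ b * y ^ a = (v * y * v⁻¹ * y⁻¹) ^ (a * b) * (y ^ a * v ^ b) := by
  set e := v * y * v⁻¹ * y⁻¹ with he
  have heZ : e ∈ zpowers w := B.cubic.commutator_mem B.v_mem B.cubic.y_mem
  have hec : ∀ q ∈ rCore r t, Commute q e := ((B.cubic.mem_center_iff').1 heZ).2
  have h1 : ∀ a : ℕ, v * y ^ a = e ^ a * (y ^ a * v) := by
    intro a
    induction a with
    | zero => simp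
    | succ a ih =>
      calc v * y ^ (a + 1) = v * y ^ a * y := by rw [pow_succ, mul_assoc]
        _ = e ^ a * y ^ a * (v * y) := by rw [ih]; group
        _ = e ^ a * (y ^ a * e) * (y * v) := by rw [he]; group
        _ = e ^ (a + 1) * (y ^ (a + 1) * v) := by
          rw [(hec _ (pow_mem B.cubic.y_mem a)).eq, pow_succ, pow_succ]; group
  induction b with
  | zero => simp
  | succ b ih =>
    calc v ^ (b + 1) * y ^ a = v ^ b * (v * y ^ a) := by rw [pow_succ, mul_assoc]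
      _ = (v ^ b * e ^ a) * y ^ a * v := by rw [h1]; group
      _ = e ^ a * (v ^ b * y ^ a) * v := by rw [((hec _ (pow_mem B.v_mem b)).pow_right a).eq]; group
      _ = e ^ (a * (b + 1)) * (y ^ a * v ^ (b + 1)) := by
        rw [ih, Nat.mul_succ, add_comm, pow_add, pow_succ]; group

theorem crd_mul {p q : G} (hp : p ∈ rCore r t) (hq : q ∈ rCore r t) :
    crd r y v w (p * q) = crd r y v w p + crd r y v w q := by
  have := Fact.mk B.cubic.prime
  refine B.crd_eq ?_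
  have := B.cubic.Zc_normal
  let := IsPGroup.commGroupOfCardEqPrimeSq (G := rCore r t ⧸ B.cubic.Zc) (p := r) B.cubic.card_quot
  let f : (Fin 2 → ZMod r) → rCore r t ⧸ B.cubic.Zc := fun x => ((⟨word r y v x, B.word_mem x⟩ : rCore r t) : _)
  have hfeq : ∀ {q} (hq : q ∈ rCore r t), f (crd r y v w q) = ((⟨q, hq⟩ : rCore r t) : _) := fun hq =>
    QuotientGroup.eq.2 (mem_subgroupOf.2 (B.crd_spec hq))
  have hr1 : ∀ {s : G} (hs : s ∈ rCore r t), (((⟨s, hs⟩ : rCore r t) : rCore r t ⧸ B.cubic.Zc)) ^ r = 1 := fun hs => by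
    rw [← QuotientGroup.mk_pow, QuotientGroup.eq_one_iff, mem_subgroupOf]
    exact B.cubic.pow_mem_center hs
  have hfadd : ∀ x x', f (x + x') = f x * f x' := by
    intro x x'
    have hw' : ∀ x, f x = ((⟨y, B.cubic.y_mem⟩ : rCore r t) : rCore r t ⧸ B.cubic.Zc) ^ (x 0).val *
        ((⟨v, B.v_mem⟩ : rCore r t) : rCore r t ⧸ B.cubic.Zc) ^ (x 1).val := fun x => by
      rw [← QuotientGroup.mk_pow, ← QuotientGroup.mk_pow, ← QuotientGroup.mk_mul]
      rfl
    rw [hw', hw', hw', Pi.add_apply, Pi.add_apply, ZMod.val_add, ZMod.val_add, ← pow_eq_pow_mod _ (hr1 _),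
      ← pow_eq_pow_mod _ (hr1 _), pow_add, pow_add, mul_mul_mul_comm]
  have h := hfadd (crd r y v w p) (crd r y v w q)
  rw [hfeq hp, hfeq hq, ← QuotientGroup.mk_mul] at h
  exact mem_subgroupOf.1 (QuotientGroup.eq.1 h)

theorem crd_inv {q : G} (hq : q ∈ rCore r t) : crd r y v w q⁻¹ = -crd r y v w q := by
  rw [eq_neg_iff_add_eq_zero, ← B.crd_mul (inv_mem hq) hq, inv_mul_cancel, B.crd_one]

theorem crd_pow {q : G} (hq : q ∈ rCore r t) (n : ℕ) : crd r y v w (q ^ n) = n • crd r y v w q := by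
  induction n with
  | zero => rw [pow_zero, B.crd_one, zero_smul]
  | succ n ih => rw [pow_succ, B.crd_mul (pow_mem hq n) hq, ih, succ_nsmul]

end CubicBasis

end CfsgLib.GW.Dne
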