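import Cfsg.Agent.Lib.GW.Dne.Mixed.Cubic.Fixed

/-!
# A mixed prime, extraspecial case: the exceptional configuration
-/

set_option autoImplicit false

namespace CfsgLib.GW.Dne

open Subgroup CfsgLib.GW
open CfsgLib.Signalizer (involution_sq involution_inv involution_ne_one orderOf_eq_two_of orderOf_conj)

universe u

variable {G : Type u} [Group G] [Finite G]

namespace CubicBasis

variable {σ : Hyp G} {t u₁ u₂ g₁ g₂ : G} {r : ℕ} {y w v : G} (B : CubicBasis σ t u₁ u₂ g₁ g₂ r y w v)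
include B

omit B in
theorem conj_mem_C₀ {i x : G} (hit : Commute i t) (hx : x ∈ C₀ r t) : i * x * i⁻¹ ∈ C₀ r t := by
  obtain ⟨hxU, hxQ⟩ := mem_C₀.1 hx
  refine mem_C₀.2 ⟨conj_mem_U_of_commute hit hxU, fun q hq => ?_⟩
  have := (hxQ (i⁻¹ * q * i) (by simpa using Mixed.conj_mem_Q hit.inv_left hq)).map (MulAut.conj i).toMonoidHom
  simpa [mul_assoc] using this

theorem C₀_inverted {u : G} (hu : orderOf u = 2) (hut : Commute u t) (hD : D t u = zpowers y)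
    (hu₁y : Commute y u₁) {x : G} (hx : x ∈ C₀ r t) : u * x * u⁻¹ = x⁻¹ := by
  have hodd : Odd (Nat.card (C₀ r t)) := (σ.odd_U B.ht).of_dvd_nat (card_dvd_of_le inf_le_left)
  obtain ⟨c, hc, i, -, hcu, hiu, rfl⟩ := decomp hodd hu
    (mem_normalizer_of_conj fun x hx => conj_mem_C₀ hut hx) hx
  obtain ⟨hcU, hcQ⟩ := mem_C₀.1 hc
  obtain ⟨k, hk⟩ : c ∈ zpowers y := hD ▸ ⟨hcU, mem_centralizer_of_commute hcu⟩
  have hc1 : c = 1 := B.cubic.eq_one_of_fixed_center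
    ((B.cubic.mem_center_iff').2 ⟨by rw [← hk]; exact zpow_mem B.cubic.y_mem k, fun q hq => (hcQ q hq).symm⟩)
    (by rw [← hk]; exact hu₁y.zpow_left k)
  rw [hc1, one_mul]
  exact hiu

theorem C₀_comm (C : Components G) (hL : NoFixedLinear G) {a b : G} (ha : a ∈ C₀ r t) (hb : b ∈ C₀ r t) :
    Commute a b := by
  have hinv : ∀ x ∈ C₀ r t, u₁ * x * u₁⁻¹ = x⁻¹ := fun x hx =>
    B.C₀_inverted B.frame.hu₁ B.frame.commute₁ (B.D₁ C hL) B.cubic.y_comm hx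
  have h := hinv _ ((C₀ r t).mul_mem ha hb)
  rw [show u₁ * (a * b) * u₁⁻¹ = (u₁ * a * u₁⁻¹) * (u₁ * b * u₁⁻¹) by group, hinv a ha, hinv b hb,
    ← mul_inv_rev, inv_inj] at h
  exact h.symm

/-- The `r'`-part `K` of `C₀` complements `⟨w⟩`. -/
theorem exists_K (C : Components G) (hL : NoFixedLinear G) :
    ∃ K : Subgroup G, (∀ x, x ∈ K ↔ x ∈ C₀ r t ∧ ¬ r ∣ orderOf x) ∧
      ∀ x ∈ C₀ r t, ∃ z ∈ zpowers w, ∃ k ∈ K, x = z * k := by
  have := Fact.mk B.cubic.prime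
  have hab : ∀ a ∈ C₀ r t, ∀ b ∈ C₀ r t, Commute a b := fun a ha b hb => B.C₀_comm C hL ha hb
  let K : Subgroup G :=
    { carrier := {x | x ∈ C₀ r t ∧ ¬ r ∣ orderOf x}
      one_mem' := ⟨(C₀ r t).one_mem, by rw [orderOf_one]; exact B.cubic.prime.not_dvd_one⟩
      mul_mem' := fun {a b} ha hb => ⟨(C₀ r t).mul_mem ha.1 hb.1, fun h => by
        rcases B.cubic.prime.dvd_mul.1 (h.trans ((hab a ha.1 b hb.1).orderOf_mul_dvd_lcm.trans
          (Nat.lcm_dvd_mul _ _))) with h | h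
        · exact ha.2 h
        · exact hb.2 h⟩
      inv_mem' := fun {a} ha => ⟨(C₀ r t).inv_mem ha.1, by rw [orderOf_inv]; exact ha.2⟩ }
  -- the `r`-part of `C(Q)` is `Z`
  let P₀ : Subgroup (U t) :=
    { carrier := {x | (x : G) ∈ C₀ r t ∧ ∃ k : ℕ, (x : G) ^ r ^ k = 1}
      one_mem' := ⟨(C₀ r t).one_mem, 0, by simp⟩
      mul_mem' := fun {a b} ha hb => by
        obtain ⟨i, hi⟩ := ha.2
        obtain ⟨j, hj⟩ := hb.2
        refine ⟨(C₀ r t).mul_mem ha.1 hb.1, i + j, ?_⟩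
        rw [coe_mul, (hab _ ha.1 _ hb.1).mul_pow, pow_add, pow_mul, hi, one_pow, one_mul, mul_comm (r ^ i),
          pow_mul, hj, one_pow]
      inv_mem' := fun {a} ha => by
        obtain ⟨i, hi⟩ := ha.2
        exact ⟨(C₀ r t).inv_mem ha.1, i, by rw [coe_inv, inv_pow, hi, inv_one]⟩ }
  have : P₀.Normal := ⟨fun x hx g => by
    obtain ⟨i, hi⟩ := hx.2
    refine ⟨conj_mem_C₀ ((σ.mem_U B.ht).1 g.2).1 hx.1, i, ?_⟩
    rw [coe_mul, coe_mul, coe_inv, conj_pow, hi, mul_one, mul_inv_cancel]⟩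
  have hP₀ : P₀ ≤ Cfsg.pCore r (U t) := CfsgLib.Core.le_pCore (fun x => by
    obtain ⟨i, hi⟩ := x.2.2
    exact ⟨i, Subtype.ext (Subtype.ext hi)⟩)
  refine ⟨K, fun x => Iff.rfl, ?_⟩
  intro x hx
  obtain ⟨a, m, hm, he⟩ := Nat.exists_eq_pow_mul_and_not_dvd (orderOf_pos x).ne' r B.cubic.prime.ne_one
  have hcop : Nat.Coprime (r ^ a) m := ((B.cubic.prime.coprime_iff_not_dvd).2 hm).pow_left a
  have hb := Nat.gcd_eq_gcd_ab (r ^ a) m
  rw [hcop.gcd_eq_one, Nat.cast_one] at hb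
  set i := Nat.gcdA (r ^ a) m
  set j := Nat.gcdB (r ^ a) m
  have h1 : (x ^ ((m : ℤ) * j)) ^ r ^ a = 1 := by
    rw [← zpow_natCast, ← zpow_mul, mul_assoc, mul_comm j, ← mul_assoc, zpow_mul]
    have : x ^ ((m : ℤ) * ((r ^ a : ℕ) : ℤ)) = 1 := by
      rw [← Nat.cast_mul, zpow_natCast, mul_comm, ← he, pow_orderOf_eq_one]
    rw [this, one_zpow]
  have h2 : (x ^ (((r ^ a : ℕ) : ℤ) * i)) ^ m = 1 := by
    rw [← zpow_natCast, ← zpow_mul, mul_comm (((r ^ a : ℕ) : ℤ)) i, mul_assoc, mul_comm i, zpow_mul,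
      ← Nat.cast_mul, zpow_natCast, ← he, pow_orderOf_eq_one, one_zpow]
  have hmem₁ : x ^ ((m : ℤ) * j) ∈ C₀ r t := (C₀ r t).zpow_mem hx _
  have hmem₂ : x ^ (((r ^ a : ℕ) : ℤ) * i) ∈ K :=
    ⟨(C₀ r t).zpow_mem hx _, fun h => hm (h.trans (orderOf_dvd_of_pow_eq_one h2))⟩
  refine ⟨x ^ ((m : ℤ) * j), ?_, x ^ (((r ^ a : ℕ) : ℤ) * i), hmem₂, ?_⟩
  · have hU : x ^ ((m : ℤ) * j) ∈ U t := (mem_C₀.1 hmem₁).1
    have hp : (⟨x ^ ((m : ℤ) * j), hU⟩ : U t) ∈ P₀ := ⟨hmem₁, a, h1⟩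
    have hQ : x ^ ((m : ℤ) * j) ∈ rCore r t := ⟨_, hP₀ hp, rfl⟩
    exact (B.cubic.mem_center_iff').2 ⟨hQ, fun q hq => ((mem_C₀.1 hmem₁).2 q hq).symm⟩
  · rw [← zpow_add, add_comm, ← hb, zpow_one]

theorem φ_core_eq_one {q : G} (hq : q ∈ rCore r t) : B.φ ⟨q, rCore_le r t hq⟩ = 1 := by
  refine Subtype.ext ?_
  ext i j
  rw [Matrix.SpecialLinearGroup.coe_one]
  have e : ∀ z ∈ rCore r t, crd r y v w (q * z * q⁻¹) = crd r y v w z := fun z hz => by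
    rw [B.crd_mul (mul_mem hq hz) (inv_mem hq), B.crd_mul hq hz, B.crd_inv hq, add_right_comm, add_neg_cancel,
      zero_add]
  have hy := B.M_col_y ⟨q, U_le_normalizer_core (rCore_le r t hq)⟩ i
  have hv := B.M_col_v ⟨q, U_le_normalizer_core (rCore_le r t hq)⟩ i
  fin_cases j
  · refine hy.trans ?_
    rw [e y B.cubic.y_mem, B.crd_y]
    fin_cases i <;> simp
  · refine hv.trans ?_
    rw [e v B.v_mem, B.crd_v]
    fin_cases i <;> simp

theorem φ_C₀_eq_one {k : G} (hk : k ∈ C₀ r t) : B.φ ⟨k, (mem_C₀.1 hk).1⟩ = 1 := by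
  refine Subtype.ext ?_
  ext i j
  rw [Matrix.SpecialLinearGroup.coe_one]
  have hy := B.M_col_y ⟨k, U_le_normalizer_core (mem_C₀.1 hk).1⟩ i
  have hv := B.M_col_v ⟨k, U_le_normalizer_core (mem_C₀.1 hk).1⟩ i
  fin_cases j
  · refine hy.trans ?_
    rw [conj_eq_of_commute ((mem_C₀.1 hk).2 y B.cubic.y_mem), B.crd_y]
    fin_cases i <;> simp
  · refine hv.trans ?_
    rw [conj_eq_of_commute ((mem_C₀.1 hk).2 v B.v_mem), B.crd_v]
    fin_cases i <;> simp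

attribute [local irreducible] φ

variable {K : Subgroup G} (hK : ∀ x, x ∈ K ↔ x ∈ C₀ r t ∧ ¬ r ∣ orderOf x)
  (hdec : ∀ x ∈ C₀ r t, ∃ z ∈ zpowers w, ∃ k ∈ K, x = z * k)

include hK in
omit B [Finite G] in
theorem top_le : rCore r t ⊔ K ≤ U t := sup_le (rCore_le r t) fun k hk => (mem_C₀.1 ((hK k).1 hk).1).1

include hK hdec in
theorem φ_eq_one_iff {h : G} (hh : h ∈ U t) : B.φ ⟨h, hh⟩ = 1 ↔ h ∈ rCore r t ⊔ K := by
  constructor
  · intro h1
    obtain ⟨q, hq, hc⟩ := B.exists_of_φ_eq_one h1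
    obtain ⟨z, hz, k, hk, e⟩ := hdec _ hc
    rw [show h = q * z * k by rw [mul_assoc, ← e]; group]
    exact mul_mem (mem_sup_left (mul_mem hq ((zpowers_le.2 B.cubic.w_mem) hz))) (mem_sup_right hk)
  · intro h1
    have hle : rCore r t ⊔ K ≤ (MonoidHom.ker B.φ).map (U t).subtype :=
      sup_le (fun q hq => ⟨⟨q, rCore_le r t hq⟩, MonoidHom.mem_ker.2 (B.φ_core_eq_one hq), rfl⟩)
        fun k hk => ⟨⟨k, (mem_C₀.1 ((hK k).1 hk).1).1⟩, MonoidHom.mem_ker.2 (B.φ_C₀_eq_one ((hK k).1 hk).1), rfl⟩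
    obtain ⟨x, hx, hxh⟩ := mem_map.1 (hle h1)
    have e : x = ⟨h, hh⟩ := Subtype.ext hxh
    exact e ▸ MonoidHom.mem_ker.1 hx

include hK hdec in
theorem centralizer_y_eq (hL : NoFixedLinear G) : U t ⊓ centralizer {y} = zpowers y ⊔ zpowers w ⊔ K := by
  apply le_antisymm
  · rintro h ⟨hU, hy⟩
    have hy' : Commute h y := commute_of_mem_centralizer hy
    have h1 : B.φ ⟨h, hU⟩ = 1 := B.eq_one_of_fix hL B.cubic.y_mem
      (fun hz => B.cubic.axis.y_ne (B.cubic.eq_one_of_fixed_center hz B.cubic.y_comm))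
      (by show crd r y v w (h * y * h⁻¹) = _; rw [conj_eq_of_commute hy'])
    obtain ⟨q, hq, hc⟩ := B.exists_of_φ_eq_one h1
    obtain ⟨z, hz, k, hk, e⟩ := hdec _ hc
    have hqy : Commute q y := by
      have h2 : q = h * (q⁻¹ * h)⁻¹ := by group
      rw [h2]
      exact hy'.mul_left ((mem_C₀.1 hc).2 y B.cubic.y_mem).inv_left
    obtain ⟨c, hc', n, hn⟩ := B.cubic.axis.exists_mul_of_commute hq hqy
    rw [B.cubic.fixed_eq] at hc'
    rw [show h = c * (w ^ n * z) * k by rw [← mul_assoc c, ← hn, mul_assoc, ← e, mul_inv_cancel_left]]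
    exact mul_mem (mem_sup_left (mul_mem (mem_sup_left hc') (mem_sup_right (mul_mem (zpow_mem (mem_zpowers w) n) hz))))
      (mem_sup_right hk)
  · refine sup_le (sup_le (zpowers_le.2 ⟨rCore_le r t B.cubic.y_mem, mem_centralizer_of_commute (Commute.refl y)⟩)
      (zpowers_le.2 ⟨rCore_le r t B.cubic.w_mem, mem_centralizer_of_commute B.cubic.axis.commute_yw.symm⟩)) ?_
    exact fun k hk => ⟨(mem_C₀.1 ((hK k).1 hk).1).1,
      mem_centralizer_of_commute ((mem_C₀.1 ((hK k).1 hk).1).2 y B.cubic.y_mem)⟩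

include hK hdec in
theorem top_inv {u : G} (hL : NoFixedLinear G) (hu : orderOf u = 2) (hut : Commute u t)
    (hs : ∀ q ∈ rCore r t, u * q * u⁻¹ = u₁ * q * u₁⁻¹) :
    ∀ h ∈ U t, u * h * u⁻¹ * h ∈ rCore r t ⊔ K := by
  intro h hh
  have hh' : u * h * u⁻¹ ∈ U t := conj_mem_U_of_commute hut hh
  refine (B.φ_eq_one_iff hK hdec ((U t).mul_mem hh' hh)).1 ?_
  have e : (⟨u * h * u⁻¹ * h, (U t).mul_mem hh' hh⟩ : U t) = ⟨u * h * u⁻¹, hh'⟩ * ⟨h, hh⟩ := rfl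
  rw [e, map_mul]
  exact B.φ_inverted hL hu hut hs ⟨h, hh⟩

include hK hdec in
theorem top_comm (hL : NoFixedLinear G) : ∀ a ∈ U t, ∀ b ∈ U t, a * b * a⁻¹ * b⁻¹ ∈ rCore r t ⊔ K := by
  intro a ha b hb
  refine (B.φ_eq_one_iff hK hdec (mul_mem (mul_mem (mul_mem ha hb) (inv_mem ha)) (inv_mem hb))).1 ?_
  obtain ⟨-, hcomm, -, -⟩ := B.range_facts hL
  have e : (⟨a * b * a⁻¹ * b⁻¹, mul_mem (mul_mem (mul_mem ha hb) (inv_mem ha)) (inv_mem hb)⟩ : U t) =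
      ⟨a, ha⟩ * ⟨b, hb⟩ * ⟨a, ha⟩⁻¹ * ⟨b, hb⟩⁻¹ := rfl
  rw [e, map_mul, map_mul, map_mul, map_inv, map_inv, (hcomm _ _).eq, mul_inv_cancel_right, mul_inv_cancel]

theorem exceptional (C : Components G) (hL : NoFixedLinear G) :
    ∃ K : Subgroup G, Exceptional σ t u₁ u₂ g₁ g₂ r w y K := by
  have := Fact.mk B.cubic.prime
  obtain ⟨hs, hg₂y⟩ := B.side_one hL
  obtain ⟨hndvd, hcomm, hdvd, h5⟩ := B.range_facts hL
  obtain ⟨K, hK, hdec⟩ := B.exists_K C hL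
  have hD₁ := B.D₁ C hL
  have hD₂ := B.D₂ C hL
  have hinv₁ : ∀ x ∈ C₀ r t, u₁ * x * u₁⁻¹ = x⁻¹ := fun x hx =>
    B.C₀_inverted B.frame.hu₁ B.frame.commute₁ hD₁ B.cubic.y_comm hx
  have hinv₂ : ∀ x ∈ C₀ r t, u₂ * x * u₂⁻¹ = x⁻¹ := fun x hx =>
    B.C₀_inverted B.frame.hu₂ B.frame.commute₂ hD₂ B.cubic.y_comm hx
  have hKC : ∀ k ∈ K, k ∈ C₀ r t := fun k hk => ((hK k).1 hk).1
  have hKle : K ≤ U t := fun k hk => (mem_C₀.1 (hKC k hk)).1
  have hKn : centralizer ({t} : Set G) ≤ normalizer (K : Set G) := fun i hi =>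
    mem_normalizer_of_conj fun k hk => (hK _).2
      ⟨conj_mem_C₀ (commute_of_mem_centralizer hi) (hKC k hk), by rw [orderOf_conj]; exact ((hK k).1 hk).2⟩
  have hKr : ¬ r ∣ Nat.card K := by
    intro hr
    obtain ⟨k, hk⟩ := exists_prime_orderOf_dvd_card' (G := K) r hr
    rw [← Subgroup.orderOf_coe] at hk
    exact ((hK k).1 k.2).2 (hk ▸ dvd_rfl)
  have hfpf : ∀ h ∈ U t, h ∉ rCore r t ⊔ K → ∀ q ∈ rCore r t, Commute h q → q ∈ zpowers w := by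
    intro h hh hnT q hq hc
    by_contra hqw
    exact hnT ((B.φ_eq_one_iff hK hdec hh).1 (B.eq_one_of_fix hL hq hqw
      (by show crd r y v w (h * q * h⁻¹) = _; rw [conj_eq_of_commute hc])))
  have hne : ¬ U t ≤ rCore r t ⊔ K := by
    intro hle
    obtain ⟨h, hh⟩ := B.moved_col
    refine hh ?_
    rw [show B.φ h = 1 from (B.φ_eq_one_iff hK hdec h.2).2 (hle h.2)]
    simp
  have hker : (rCore r t ⊔ K).subgroupOf (U t) = B.φ.ker := by
    ext h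
    rw [mem_subgroupOf, MonoidHom.mem_ker]
    exact (B.φ_eq_one_iff hK hdec h.2).symm
  have hidx : (rCore r t ⊔ K).relIndex (U t) = Nat.card B.φ.range := by
    rw [relIndex, hker, index_ker]
  exact ⟨K,
    { frame := B.frame, prime := B.cubic.prime, five_le := h5, card_Q := B.cubic.card_Q, nonab := B.cubic.nonab
      y_mem := B.cubic.y_mem, y_order := B.cubic.axis.y_order
      y_g₁ := (B.cubic.axis.g₁_comm y B.cubic.axis.y_mem).symm, y_g₂ := hg₂y.symm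
      D₁ := hD₁, D₂ := hD₂, x_mem := B.cubic.w_mem, x_order := B.cubic.w_order, x_inv₁ := B.cubic.axis.w_inv
      x_inv₂ := (hs w B.cubic.w_mem).trans B.cubic.axis.w_inv, x_central := B.cubic.w_U
      K_le := hKle, K_normal := hKn
      K_coprime := hKr, K_inv₁ := fun k hk => hinv₁ k (hKC k hk), K_inv₂ := fun k hk => hinv₂ k (hKC k hk)
      K_comm := fun k hk => (mem_C₀.1 (hKC k hk)).2
      centralizer_y := B.centralizer_y_eq hK hdec hL
      top_inv₁ := B.top_inv hK hdec hL B.frame.hu₁ B.frame.commute₁ (fun _ _ => rfl)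
      top_inv₂ := B.top_inv hK hdec hL B.frame.hu₂ B.frame.commute₂ hs
      top_comm := B.top_comm hK hdec hL, top_fpf := hfpf, top_ne := hne
      top_dvd := hidx ▸ hdvd }⟩

end CubicBasis

/-- The extraspecial case of a mixed prime leads to the exceptional configuration. -/
theorem cubicEnd (C : Components G) (hL : NoFixedLinear G) : CubicEnd G := by
  intro σ t u₁ u₂ g₁ g₂ r y w h
  obtain ⟨v, hv, hvi, hvn⟩ := h.exists_v
  exact (CubicBasis.exceptional ⟨h, hv, hvi, hvn⟩ C hL)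

end CfsgLib.GW.Dne
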