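import Cfsg.Agent.Lib.GW.Dne.Mixed.Cubic.Image

/-!
# A mixed prime, extraspecial case: the kernel and the fixed points of the reflections
-/

set_option autoImplicit false

namespace CfsgLib.GW.Dne.CubicBasis

open Subgroup CfsgLib.GW
open scoped MatrixGroups
open CfsgLib.Signalizer (involution_sq involution_inv involution_ne_one orderOf_eq_two_of orderOf_conj)

universe u

variable {G : Type u} [Group G] [Finite G]
variable {σ : Hyp G} {t u₁ u₂ g₁ g₂ : G} {r : ℕ} {y w v : G} (B : CubicBasis σ t u₁ u₂ g₁ g₂ r y w v)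
include B

omit B [Finite G] in
/-- `C(Q) ⊓ O(C(t))`. -/
noncomputable def C₀ (r : ℕ) (t : G) : Subgroup G := U t ⊓ centralizer (rCore r t : Set G)

omit B [Finite G] in
theorem mem_C₀ {x : G} : x ∈ C₀ r t ↔ x ∈ U t ∧ ∀ q ∈ rCore r t, Commute x q :=
  ⟨fun h => ⟨h.1, fun q hq => (mem_centralizer_iff.1 h.2 q hq).symm⟩,
    fun h => ⟨h.1, mem_centralizer_iff.2 fun q hq => (h.2 q hq).symm.eq⟩⟩

theorem zpowers_e : zpowers (v * y * v⁻¹ * y⁻¹) = zpowers w := by
  have hle : zpowers (v * y * v⁻¹ * y⁻¹) ≤ zpowers w :=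
    zpowers_le.2 (B.cubic.commutator_mem B.v_mem B.cubic.y_mem)
  have hp : Nat.card (zpowers w) = r := by rw [Nat.card_zpowers, B.cubic.w_order]
  refine eq_of_le_of_card_ge hle ?_
  rw [hp]
  have hd := card_dvd_of_le hle
  rw [hp] at hd
  rcases (Nat.dvd_prime B.cubic.prime).1 hd with e | e
  · exfalso
    have : Subsingleton (zpowers (v * y * v⁻¹ * y⁻¹)) := (Nat.card_eq_one_iff_unique.1 e).1
    exact B.comm_ne (congrArg Subtype.val (Subsingleton.elim (⟨_, mem_zpowers _⟩ : zpowers (v * y * v⁻¹ * y⁻¹)) 1))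
  · exact e.ge

theorem exists_pow_e {z : G} (hz : z ∈ zpowers w) : ∃ n : ℕ, z = (v * y * v⁻¹ * y⁻¹) ^ n := by
  rw [← B.zpowers_e] at hz
  obtain ⟨n, hn⟩ := (isOfFinOrder_of_finite _).mem_powers_iff_mem_zpowers.2 hz
  exact ⟨n, hn.symm⟩

theorem mem_center_of_crd {p q : G} (hp : p ∈ rCore r t) (hq : q ∈ rCore r t)
    (h : crd r y v w p = crd r y v w q) : p * q⁻¹ ∈ zpowers w := by
  rw [← B.crd_eq_zero_iff (mul_mem hp (inv_mem hq)), B.crd_mul hp (inv_mem hq), B.crd_inv hq, h, add_neg_cancel]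

theorem commute_core {x : G} (hy : Commute x y) (hv : Commute x v) (hx : x ∈ U t) :
    ∀ q ∈ rCore r t, Commute x q := by
  intro q hq
  obtain ⟨k, hk⟩ := B.crd_spec hq
  rw [show q = word r y v (crd r y v w q) * w ^ k by rw [show w ^ k = _ from hk, mul_inv_cancel_left]]
  exact ((hy.pow_right _).mul_right (hv.pow_right _)).mul_right ((B.cubic.w_U x hx).zpow_right k)

/-- An element acting trivially on `Q / Z` is in `Q C(Q)`. -/
theorem exists_of_φ_eq_one {h : U t} (hh : B.φ h = 1) : ∃ q ∈ rCore r t, q⁻¹ * (h : G) ∈ C₀ r t := by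
  set e := v * y * v⁻¹ * y⁻¹ with he
  have hec : ∀ q ∈ rCore r t, Commute q e :=
    ((B.cubic.mem_center_iff').1 (B.cubic.commutator_mem B.v_mem B.cubic.y_mem)).2
  have hmem : ∀ p ∈ rCore r t, (h : G) * p * (h : G)⁻¹ * p⁻¹ ∈ zpowers w := fun p hp =>
    B.mem_center_of_crd (conj_mem_core (U_le_normalizer_core h.2) hp) hp
      (by rw [← B.φ_mulVec h hp, hh, Matrix.SpecialLinearGroup.coe_one, Matrix.one_mulVec])
  obtain ⟨α, hα⟩ := B.exists_pow_e (hmem y B.cubic.y_mem)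
  obtain ⟨β, hβ⟩ := B.exists_pow_e (hmem v B.v_mem)
  rw [← he] at hα hβ
  have hvy : v ^ α * y * (v ^ α)⁻¹ = e ^ α * y := by
    have := B.swap_pow 1 α
    rw [one_mul, pow_one, ← he] at this
    rw [this]; group
  have hyv : (y ^ β)⁻¹ * v * y ^ β = e ^ β * v := by
    have := B.swap_pow β 1
    rw [mul_one, pow_one, ← he] at this
    calc (y ^ β)⁻¹ * v * y ^ β = (y ^ β)⁻¹ * (v * y ^ β) := by group
      _ = ((y ^ β)⁻¹ * e ^ β) * y ^ β * v := by rw [this]; group
      _ = e ^ β * v := by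
        rw [((hec _ (inv_mem (pow_mem B.cubic.y_mem β))).pow_right β).eq]; group
  set q := v ^ α * (y ^ β)⁻¹ with hq
  have hqQ : q ∈ rCore r t := mul_mem (pow_mem B.v_mem α) (inv_mem (pow_mem B.cubic.y_mem β))
  have hqy : q * y * q⁻¹ = (h : G) * y * (h : G)⁻¹ := by
    calc q * y * q⁻¹ = v ^ α * ((y ^ β)⁻¹ * y * y ^ β) * (v ^ α)⁻¹ := by rw [hq]; group
      _ = e ^ α * y := by
        rw [show (y ^ β)⁻¹ * y * y ^ β = y by
          rw [((Commute.refl y).pow_left β).inv_left.eq, inv_mul_cancel_right], hvy]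
      _ = (h : G) * y * (h : G)⁻¹ := by rw [← hα]; group
  have hqv : q * v * q⁻¹ = (h : G) * v * (h : G)⁻¹ := by
    calc q * v * q⁻¹ = v ^ α * ((y ^ β)⁻¹ * v * y ^ β) * (v ^ α)⁻¹ := by rw [hq]; group
      _ = (v ^ α * e ^ β) * (v * (v ^ α)⁻¹) := by rw [hyv]; group
      _ = e ^ β * v := by
        rw [((hec _ (pow_mem B.v_mem α)).pow_right β).eq]; group
      _ = (h : G) * v * (h : G)⁻¹ := by rw [← hβ]; group
  have hxU : q⁻¹ * (h : G) ∈ U t := mul_mem (inv_mem (rCore_le r t hqQ)) h.2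
  refine ⟨q, hqQ, mem_C₀.2 ⟨hxU, B.commute_core ?_ ?_ hxU⟩⟩
  · refine commute_of_conj_eq ?_
    calc q⁻¹ * h * y * (q⁻¹ * h)⁻¹ = q⁻¹ * ((h : G) * y * (h : G)⁻¹) * q := by group
      _ = y := by rw [← hqy]; group
  · refine commute_of_conj_eq ?_
    calc q⁻¹ * h * v * (q⁻¹ * h)⁻¹ = q⁻¹ * ((h : G) * v * (h : G)⁻¹) * q := by group
      _ = v := by rw [← hqv]; group

/-- A fused subgroup does not contain `Q`. -/
theorem false_of_fused (C : Components G) {X : Subgroup G} {u g : G} (hF : Fused X t u g)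
    (hact : ∀ q ∈ rCore r t, u * q * u⁻¹ = u₁ * q * u₁⁻¹) (hut : Commute u t)
    (hfix : rCore r t ⊓ centralizer ({u} : Set G) = zpowers y) (hQX : rCore r t ≤ X) : False := by
  have := Fact.mk B.cubic.prime
  have hvu : u * v * u⁻¹ = v⁻¹ := by rw [hact v B.v_mem, B.v_inv]
  have h := hF.le_normalizer_fixed B.cubic.axis.mixed.cfixed B.cubic.axis.mixed.ne_two (isPGroup_rCore r t)
    (rCore_le r t) hQX (centralizer_le_normalizer_rCore r t (mem_centralizer_of_commute hut)) C.fieldTrivial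
    (B.cubic.axis.mixed.le_normalizer_Q X) B.v_mem (fun e => B.v_not (e ▸ one_mem _)) hvu
  rw [hfix] at h
  have hm := (mem_normalizer_iff.1 (h B.v_mem) y).1 (mem_zpowers y)
  obtain ⟨k, hk⟩ := hm
  have he : v * y * v⁻¹ * y⁻¹ = y ^ (k - 1) := by
    rw [zpow_sub_one]
    exact congrArg (· * y⁻¹) hk.symm
  refine B.comm_ne (B.cubic.eq_one_of_fixed_center (B.cubic.commutator_mem B.v_mem B.cubic.y_mem) ?_)
  rw [he]
  exact B.cubic.y_comm.zpow_left _

/-- The fixed points of a reflection in `O(C(t))`. -/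
theorem D_eq (C : Components G) (hL : NoFixedLinear G) {u u' g g' : G} (M : Mixed σ t u u' g g' r)
    (hfix : fixedQ r t u = zpowers y) (hgy : Commute g y)
    (hact : ∀ q ∈ rCore r t, u * q * u⁻¹ = u₁ * q * u₁⁻¹) : D t u = zpowers y := by
  have := Fact.mk B.cubic.prime
  have hut : Commute u t := M.frame.commute₁
  have hyD : y ∈ D t u := M.fixedQ_le_D (hfix ▸ mem_zpowers y)
  refine le_antisymm ?_ (zpowers_le.2 hyD)
  set D₀ := D t u ⊓ centralizer (rCore r t : Set G) with hD₀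
  have hD₀c : ∀ x ∈ D₀, ∀ q ∈ rCore r t, Commute q x := fun x hx q hq => mem_centralizer_iff.1 hx.2 q hq
  have hdec : ∀ d ∈ D t u, ∃ n : ℕ, (y ^ n)⁻¹ * d ∈ D₀ := by
    intro d hd
    have hdu : Commute d u := Hyp.D_commute hd
    have hφ : B.φ ⟨d, hd.1⟩ = 1 := by
      have h1 := B.φ_inverted hL M.hu₁ hut hact ⟨d, hd.1⟩
      rw [show (⟨u * (⟨d, hd.1⟩ : U t) * u⁻¹, conj_mem_U_of_commute hut hd.1⟩ : U t) = ⟨d, hd.1⟩ from
        Subtype.ext (conj_eq_of_commute hdu.symm)] at h1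
      have h2 : orderOf (B.φ ⟨d, hd.1⟩) ∣ 2 := orderOf_dvd_of_pow_eq_one (by rw [pow_two]; exact h1)
      have h3 : Odd (orderOf (B.φ ⟨d, hd.1⟩)) :=
        ((σ.odd_U B.ht).of_dvd_nat (orderOf_dvd_natCard (⟨d, hd.1⟩ : U t))).of_dvd_nat (orderOf_map_dvd _ _)
      exact orderOf_eq_one_iff.1 (Nat.eq_one_of_dvd_coprimes (Nat.coprime_two_right.2 h3) dvd_rfl h2)
    obtain ⟨q, hq, hc⟩ := B.exists_of_φ_eq_one hφ
    set c := q⁻¹ * d with hcdef
    obtain ⟨hcU, hcQ⟩ := mem_C₀.1 hc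
    have hz : q⁻¹ * (u * q * u⁻¹) ∈ zpowers w := by
      have hqu : u * q * u⁻¹ ∈ rCore r t := Mixed.conj_mem_Q hut hq
      refine (B.cubic.mem_center_iff').2 ⟨mul_mem (inv_mem hq) hqu, fun p hp => ?_⟩
      have e : q⁻¹ * (u * q * u⁻¹) = c * (u * c * u⁻¹)⁻¹ := by
        calc q⁻¹ * (u * q * u⁻¹) = q⁻¹ * ((u * d * u⁻¹) * (u * c * u⁻¹)⁻¹) := by rw [hcdef]; group
          _ = c * (u * c * u⁻¹)⁻¹ := by rw [conj_eq_of_commute hdu.symm, hcdef]; group
      rw [e]
      refine (hcQ p hp).symm.mul_right (Commute.inv_right ?_)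
      have := (hcQ (u⁻¹ * p * u) (by simpa using Mixed.conj_mem_Q hut.inv_left hp)).symm.map (MulAut.conj u).toMonoidHom
      simpa [mul_assoc] using this
    have hcrd : crd r y v w (u * q * u⁻¹) = crd r y v w q :=
      (B.crd_congr (Mixed.conj_mem_Q hut hq) hz hq)
    have hn : u ∈ normalizer (rCore r t : Set G) :=
      centralizer_le_normalizer_rCore r t (mem_centralizer_of_commute hut)
    rw [← B.M_mulVec ⟨u, hn⟩ hq, B.M_reflect hn (by rw [hact y B.cubic.y_mem, conj_eq_of_commute B.cubic.y_comm.symm])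
      (by rw [hact v B.v_mem, B.v_inv])] at hcrd
    have hb : crd r y v w q 1 = 0 := by
      have e := congrFun hcrd 1
      simp [Matrix.mulVec, dotProduct, Fin.sum_univ_two] at e
      have h2 : (2 : ZMod r) ≠ 0 := fun h => M.ne_two (by
        have h' : ((2 : ℕ) : ZMod r) = 0 := by exact_mod_cast h
        rw [ZMod.natCast_eq_zero_iff] at h'
        exact (Nat.prime_dvd_prime_iff_eq B.cubic.prime Nat.prime_two).1 h')
      exact (mul_eq_zero.1 (show (2 : ZMod r) * crd r y v w q 1 = 0 by linear_combination -e)).resolve_left h2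
    have hs := B.crd_spec hq
    rw [word, hb, ZMod.val_zero, pow_zero, mul_one] at hs
    refine ⟨(crd r y v w q 0).val, (D t u).mul_mem ((D t u).inv_mem ((D t u).pow_mem hyD _)) hd, mem_centralizer_iff.2 fun p hp => ?_⟩
    rw [show (y ^ (crd r y v w q 0).val)⁻¹ * d = ((y ^ (crd r y v w q 0).val)⁻¹ * q) * c by rw [hcdef]; group]
    exact (((B.cubic.mem_center_iff').1 hs).2 p hp).mul_right (hcQ p hp).symm
  have hD0 : D₀ = ⊥ := by
    have hodd : Odd (Nat.card D₀) := (σ.odd_D B.ht).of_dvd_nat (card_dvd_of_le inf_le_left)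
    have hr' : ¬ r ∣ Nat.card D₀ := by
      intro hdvd
      obtain ⟨z, hz⟩ := exists_prime_orderOf_dvd_card' (G := D₀) r hdvd
      rw [← Subgroup.orderOf_coe] at hz
      have hzp : IsPGroup r (zpowers (z : G)) := IsPGroup.of_card (n := 1) (by rw [Nat.card_zpowers, hz, pow_one])
      obtain ⟨g'', hg'', hgc⟩ := M.rot_comm C hzp (zpowers_le.2 z.2.1)
      have hz1 : (z : G) ≠ 1 := fun e => by rw [e, orderOf_one] at hz; exact B.cubic.prime.one_lt.ne hz
      refine B.false_of_fused C (X := centralizer ({(z : G)} : Set G)) (g := g'') ⟨σ.centralizer_ne_top hz1, ?_, ?_, ?_, hg''⟩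
        hact hut hfix fun q hq => mem_centralizer_of_commute (hD₀c z z.2 q hq)
      · exact mem_centralizer_of_commute ((σ.mem_D B.ht).1 z.2.1).1.symm
      · exact mem_centralizer_of_commute (Hyp.D_commute z.2.1).symm
      · exact mem_centralizer_of_commute (hgc z (mem_zpowers _))
    by_contra hne
    have hg : g ∈ normalizer (D₀ : Set G) := mem_normalizer_of_conj fun x hx => by
      have hx' := σ.rot_conj_mem_D M.frame.rot₁ hx.1
      obtain ⟨n, hn⟩ := hdec _ hx'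
      set m := orderOf x with hm
      have hcop : ¬ r ∣ m := fun h => hr' (h.trans (orderOf_dvd_natCard D₀ hx))
      set d₀ := (y ^ n)⁻¹ * (g * x * g⁻¹) with hd₀
      have he : g * x * g⁻¹ = y ^ n * d₀ := by rw [hd₀]; group
      have hc : Commute (y ^ n) d₀ := hD₀c d₀ hn _ (pow_mem B.cubic.y_mem n)
      have h1 : (g * x * g⁻¹) ^ m = 1 := by rw [conj_pow, hm, pow_orderOf_eq_one, mul_one, mul_inv_cancel]
      rw [he, hc.mul_pow, ← pow_mul] at h1
      have hyn : y ^ (n * m) = 1 := by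
        refine B.cubic.eq_one_of_fixed_center ((B.cubic.mem_center_iff').2 ⟨pow_mem B.cubic.y_mem _, fun p hp => ?_⟩)
          (B.cubic.y_comm.pow_left _)
        rw [eq_inv_of_mul_eq_one_left h1]
        exact ((hD₀c d₀ hn p hp).pow_right m).inv_right
      have hrn : r ∣ n * m := B.cubic.axis.y_order ▸ orderOf_dvd_of_pow_eq_one hyn
      have hn1 : y ^ n = 1 := by
        obtain ⟨k, hk⟩ := ((Nat.Prime.dvd_mul B.cubic.prime).1 hrn).resolve_right hcop
        rw [hk, pow_mul, ← B.cubic.axis.y_order, pow_orderOf_eq_one, one_pow]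
      rw [he, hn1, one_mul]
      exact hn
    have hnorm : ∀ i : G, Commute i t → Commute i u → i ∈ normalizer (D₀ : Set G) := fun i hit hiu =>
      mem_normalizer_of_conj fun x hx => by
        refine ⟨(mem_normalizer_iff.1 (Hyp.commute_centralizer_mem_normalizer_D hit hiu) x).1 hx.1,
          mem_centralizer_iff.2 fun p hp => ?_⟩
        have := (hD₀c x hx (i⁻¹ * p * i) (by simpa using Mixed.conj_mem_Q hit.inv_left hp)).map (MulAut.conj i).toMonoidHom
        simpa [mul_assoc] using this.eq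
    refine B.false_of_fused C (X := normalizer (D₀ : Set G)) (g := g) ⟨σ.normalizer_ne_top_of_odd hne hodd,
        hnorm t (Commute.refl t) hut.symm, hnorm u hut (Commute.refl u), hg, M.frame.rot₁⟩
      hact hut hfix fun q hq => mem_normalizer_of_conj fun x hx => by
        rw [conj_eq_of_commute (hD₀c x hx q hq)]; exact hx
  intro d hd
  obtain ⟨n, hn⟩ := hdec d hd
  rw [hD0, mem_bot, inv_mul_eq_one] at hn
  exact hn ▸ pow_mem (mem_zpowers y) n

theorem D₁ (C : Components G) (hL : NoFixedLinear G) : D t u₁ = zpowers y :=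
  B.D_eq C hL B.cubic.axis.mixed B.cubic.fixed_eq (B.cubic.axis.g₁_comm y B.cubic.axis.y_mem) fun _ _ => rfl

theorem D₂ (C : Components G) (hL : NoFixedLinear G) : D t u₂ = zpowers y := by
  obtain ⟨hs, hg⟩ := B.side_one hL
  have hcc : ∀ q ∈ rCore r t, Commute q u₂ ↔ Commute q u₁ := fun q hq =>
    ⟨fun h => (commute_of_conj_eq ((hs q hq).symm.trans (conj_eq_of_commute h.symm))).symm,
      fun h => (commute_of_conj_eq ((hs q hq).trans (conj_eq_of_commute h.symm))).symm⟩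
  have heq : fixedQ r t u₂ = fixedQ r t u₁ := by
    ext q
    rw [Mixed.mem_fixedQ, Mixed.mem_fixedQ]
    exact ⟨fun h => ⟨h.1, (hcc q h.1).1 h.2⟩, fun h => ⟨h.1, (hcc q h.1).2 h.2⟩⟩
  refine B.D_eq C hL (u' := u₁) (g' := g₁) ⟨B.frame.symm, B.cubic.prime, B.cubic.axis.mixed.ne_two,
    B.cubic.axis.mixed.cfixed, heq ▸ B.cubic.axis.mixed.fixed_ne, ?_⟩ (heq.trans B.cubic.fixed_eq) hg hs
  obtain ⟨q, hq, hqu⟩ := B.cubic.axis.mixed.moved
  exact ⟨q, hq, fun h => hqu ((hcc q hq).1 h)⟩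

end CfsgLib.GW.Dne.CubicBasis
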