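import Cfsg.Agent.Lib.Classical.Dickson.PSL
import Cfsg.Agent.Lib.Classical.Dickson.MaxExist

/-!
# Subgroups of odd order of `SL(2, r)` stable under a diagonal involution
-/

set_option autoImplicit false

namespace CfsgLib.GW.Dne.CubicSL

open Matrix
open scoped MatrixGroups
open CfsgLib.Classical CfsgLib.Classical.Dickson

variable {r : ℕ} [Fact r.Prime]

local notation "F" => ZMod r

/-- A subgroup of odd order either has a common eigenvector and order divisible by `r`, or is cyclic of order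
dividing `(r ± 1) / 2`. -/
theorem odd_cases (hr2 : r ≠ 2) (H : Subgroup SL(2, F)) (hH : Odd (Nat.card H)) :
    (¬ r ∣ Nat.card H ∧ (∀ A ∈ H, ∀ B ∈ H, Commute A B) ∧
        (Nat.card H ∣ r + 1 ∨ Nat.card H ∣ r - 1) ∧ (r = 3 → Nat.card H = 1)) ∨
      (r ∣ Nat.card H ∧ ∃ v : Fin 2 → F, v ≠ 0 ∧ ∀ A ∈ H, ∃ c : F, (A : Matrix (Fin 2) (Fin 2) F) *ᵥ v = c • v) := by
  classical
  have hr := (Fact.out : r.Prime)
  let π : SL(2, F) →* ProjectiveSpecialLinearGroup (Fin 2) F := QuotientGroup.mk' _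
  have hinj : Function.Injective (π.comp H.subtype) := by
    refine (injective_iff_map_eq_one _).2 fun A hA => ?_
    have hA' : (A : SL(2, F)) ∈ Subgroup.center SL(2, F) := (QuotientGroup.eq_one_iff _).1 hA
    obtain ⟨c, hc, hcA⟩ := Matrix.SpecialLinearGroup.mem_center_iff.1 hA'
    have h2 : A ^ 2 = 1 := Subtype.ext (Subtype.ext (by
      rw [Subgroup.coe_pow, Matrix.SpecialLinearGroup.coe_pow, ← hcA, ← map_pow]
      rw [Fintype.card_fin] at hc
      rw [hc, map_one]; rfl))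
    obtain ⟨k, hk⟩ := hH
    have h3 : A ^ Nat.card H = 1 := pow_card_eq_one'
    rwa [hk, pow_succ, pow_mul, h2, one_pow, one_mul] at h3
  let e : H ≃* (π.comp H.subtype).range := MonoidHom.ofInjective hinj
  have hcard : Nat.card (π.comp H.subtype).range = Nat.card H := (Nat.card_congr e.toEquiv).symm
  rcases subgroup_cases r (ZMod.card r) (π.comp H.subtype).range with
    ⟨hC, hp, hd⟩ | ⟨hp, x, hx⟩ | ⟨n, -, -, -, ⟨ψ⟩⟩ | ⟨⟨ψ⟩⟩ | ⟨⟨ψ⟩⟩ | ⟨⟨ψ⟩⟩ | ⟨a, m, hk, -, ha, hcase⟩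
  · left
    rw [hcard] at hp hd
    rw [Nat.gcd_eq_left (Nat.dvd_of_mod_eq_zero (by
      have := (Nat.odd_iff.1 (hr.odd_of_ne_two hr2)); omega) : 2 ∣ r - 1)] at hd
    have hdiv : 2 ∣ r + 1 ∧ 2 ∣ r - 1 := by
      have := (Nat.odd_iff.1 (hr.odd_of_ne_two hr2)); omega
    refine ⟨hp, fun A hA B hB => ?_, ?_, fun h3 => ?_⟩
    · let := IsCyclic.commGroup (α := (π.comp H.subtype).range)
      exact congrArg Subtype.val (e.injective (a₁ := ⟨A, hA⟩ * ⟨B, hB⟩) (a₂ := ⟨B, hB⟩ * ⟨A, hA⟩)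
        (by rw [map_mul, map_mul, mul_comm]))
    · exact hd.imp (fun h => h.trans (Nat.div_dvd_of_dvd hdiv.1)) fun h => h.trans (Nat.div_dvd_of_dvd hdiv.2)
    · subst h3
      have := Nat.odd_iff.1 hH
      rcases hd with h | h <;> norm_num at h ⊢
      · rcases (Nat.dvd_prime Nat.prime_two).1 h with e | e
        · exact e
        · rw [Nat.card_eq_fintype_card, e] at hH; exact absurd hH (by decide)
      · exact h
  · right
    rw [hcard] at hp
    refine ⟨hp, ?_⟩
    induction x using Projectivization.ind with | _ v hv =>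
    refine ⟨v, hv, fun A hA => ?_⟩
    have h := hx (π A) ⟨⟨A, hA⟩, rfl⟩
    rw [← psl_smul] at h
    change ProjGenLinGroup.mk (Matrix.SpecialLinearGroup.toGL A) • Projectivization.mk F v hv = _ at h
    rw [Projectivization.PGL.mk_smul_mk, Projectivization.mk_eq_mk_iff'] at h
    obtain ⟨c, hc⟩ := h
    exact ⟨c, hc.symm⟩
  all_goals exfalso
  · have h : Nat.card H = 2 * n := hcard.symm.trans (card_of_equiv ψ DihedralGroup.nat_card)
    rw [h] at hH
    exact Nat.not_even_iff_odd.2 hH (even_two_mul n)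
  · rw [← hcard, card_of_equiv ψ natCard_alt_four] at hH; exact absurd hH (by decide)
  · rw [← hcard, card_of_equiv ψ natCard_perm_four] at hH; exact absurd hH (by decide)
  · rw [← hcard, card_of_equiv ψ natCard_alt_five] at hH; exact absurd hH (by decide)
  · have hodd : Odd (r ^ a) := (hr.odd_of_ne_two hr2).pow
    obtain ⟨j, hj⟩ := hodd
    have h4 : 4 ∣ r ^ a * ((r ^ a) ^ 2 - 1) := dvd_mul_of_dvd_right (by
      rw [hj, show (2 * j + 1) ^ 2 - 1 = 4 * (j * j + j) by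
        rw [Nat.sub_eq_iff_eq_add (Nat.one_le_pow _ _ (by omega))]; ring]
      exact Dvd.intro _ rfl) _
    have hH' := Nat.odd_iff.1 hH
    rcases hcase with ⟨h, -⟩ | ⟨-, h, -⟩ <;> rw [hcard] at h <;> rw [← h] at h4 <;> omega

/-- Stable under the diagonal involution, the eigenvector lies on an axis. -/
theorem axis_of_eigen (hr2 : r ≠ 2) (H : Subgroup SL(2, F)) (hdvd : r ∣ Nat.card H) {v : Fin 2 → F} (hv : v ≠ 0)
    (hH : ∀ A ∈ H, ∃ c : F, (A : Matrix (Fin 2) (Fin 2) F) *ᵥ v = c • v)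
    (hJ : ∀ A ∈ H, ∃ B ∈ H, (B : Matrix (Fin 2) (Fin 2) F) 0 0 = (A : Matrix (Fin 2) (Fin 2) F) 0 0 ∧
      (B : Matrix (Fin 2) (Fin 2) F) 0 1 = -(A : Matrix (Fin 2) (Fin 2) F) 0 1 ∧
      (B : Matrix (Fin 2) (Fin 2) F) 1 0 = -(A : Matrix (Fin 2) (Fin 2) F) 1 0 ∧
      (B : Matrix (Fin 2) (Fin 2) F) 1 1 = (A : Matrix (Fin 2) (Fin 2) F) 1 1) :
    (∀ A ∈ H, (A : Matrix (Fin 2) (Fin 2) F) 1 0 = 0) ∨ ∀ A ∈ H, (A : Matrix (Fin 2) (Fin 2) F) 0 1 = 0 := by
  by_cases h1 : v 1 = 0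
  · left
    intro A hA
    obtain ⟨c, hc⟩ := hH A hA
    have e := congrFun hc 1
    simp [mulVec, dotProduct, Fin.sum_univ_two, h1] at e
    exact e.resolve_right fun h0 => hv (funext fun i => by fin_cases i <;> simp [h0, h1])
  by_cases h0 : v 0 = 0
  · right
    intro A hA
    obtain ⟨c, hc⟩ := hH A hA
    have e := congrFun hc 0
    simp [mulVec, dotProduct, Fin.sum_univ_two, h0] at e
    exact e.resolve_right h1
  exfalso
  have hr := (Fact.out : r.Prime)
  have h2 : (2 : F) ≠ 0 := fun h => hr2 (by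
    have h' : ((2 : ℕ) : F) = 0 := by exact_mod_cast h
    rw [ZMod.natCast_eq_zero_iff] at h'
    exact (Nat.prime_dvd_prime_iff_eq hr Nat.prime_two).1 h')
  obtain ⟨A, hA⟩ := exists_prime_orderOf_dvd_card' (G := H) r hdvd
  rw [← Subgroup.orderOf_coe] at hA
  have hA1 : (A : SL(2, F)) ≠ 1 := fun e => by rw [e, orderOf_one] at hA; exact hr.one_lt.ne hA
  refine hA1 (Subtype.ext ?_)
  obtain ⟨c, hc⟩ := hH _ A.2
  obtain ⟨B, hB, b00, b01, b10, b11⟩ := hJ _ A.2
  obtain ⟨d, hd⟩ := hH B hB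
  have hpow : ∀ n : ℕ, ((A : SL(2, F)) : Matrix (Fin 2) (Fin 2) F) ^ n *ᵥ v = c ^ n • v := by
    intro n
    induction n with
    | zero => simp
    | succ n ih => rw [pow_succ, ← mulVec_mulVec, hc, mulVec_smul, ih, smul_smul, pow_succ, mul_comm]
  have hc1 : c = 1 := by
    have h := hpow r
    have hAr : (A : SL(2, F)) ^ r = 1 := by
      have := pow_orderOf_eq_one (A : SL(2, F))
      rwa [hA] at this
    rw [← Matrix.SpecialLinearGroup.coe_pow, hAr, Matrix.SpecialLinearGroup.coe_one, one_mulVec,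
      ZMod.pow_card] at h
    have := congrFun h 0
    simp only [Pi.smul_apply, smul_eq_mul] at this
    exact (mul_eq_right₀ h0).1 this.symm
  -- the reflected eigenvector has eigenvalue one as well
  set M := ((A : SL(2, F)) : Matrix (Fin 2) (Fin 2) F)
  have e0 := congrFun hd 0
  have e1 := congrFun hd 1
  have f0 := congrFun hc 0
  have f1 := congrFun hc 1
  simp [mulVec, dotProduct, Fin.sum_univ_two, b00, b01, b10, b11] at e0 e1 f0 f1
  rw [hc1, one_mul] at f0 f1
  have hdet : M.det = 1 := (A : SL(2, F)).2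
  rw [det_fin_two] at hdet
  have ha : M 0 0 = M 1 1 := mul_left_cancel₀ h2 (mul_right_cancel₀ (mul_ne_zero h0 h1) (by
    linear_combination v 1 * f0 + v 1 * e0 - v 0 * f1 - v 0 * e1))
  have hbc : M 0 1 * M 1 0 = (M 0 0 - 1) * (M 0 0 - 1) := mul_right_cancel₀ (mul_ne_zero h0 h1) (by
    rw [← ha] at f1
    linear_combination M 1 0 * v 0 * f0 - (M 0 0 - 1) * v 0 * f1)
  have ha1 : M 0 0 = 1 := mul_left_cancel₀ h2 (by
    rw [← ha] at hdet; linear_combination hdet + hbc)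
  have hb0 : M 0 1 = 0 := (mul_eq_zero.1 (show M 0 1 * v 1 = 0 by rw [ha1] at f0; linear_combination f0)).resolve_right h1
  have hc0 : M 1 0 = 0 := (mul_eq_zero.1 (show M 1 0 * v 0 = 0 by
    rw [← ha, ha1] at f1; linear_combination f1)).resolve_right h0
  ext i j
  fin_cases i <;> fin_cases j <;> simp [M] at ha1 hb0 hc0 ha ⊢
  · exact ha1
  · exact hb0
  · exact hc0
  · rw [← ha, ha1]

/-- An element fixing a non-zero vector is killed by `r`. -/
theorem pow_eq_one_of_fix {A : SL(2, F)} {v : Fin 2 → F} (hv : v ≠ 0)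
    (h : (A : Matrix (Fin 2) (Fin 2) F) *ᵥ v = v) : A ^ r = 1 := by
  set M := (A : Matrix (Fin 2) (Fin 2) F)
  have hdet : M.det = 1 := A.2
  rw [det_fin_two] at hdet
  have f0 := congrFun h 0
  have f1 := congrFun h 1
  simp [mulVec, dotProduct, Fin.sum_univ_two] at f0 f1
  have hd0 : (M 0 0 - 1) * (M 1 1 - 1) - M 0 1 * M 1 0 = 0 := by
    by_contra hne
    refine hv (funext fun i => ?_)
    fin_cases i
    · exact (mul_eq_zero.1 (show ((M 0 0 - 1) * (M 1 1 - 1) - M 0 1 * M 1 0) * v 0 = 0 by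
        linear_combination (M 1 1 - 1) * f0 - M 0 1 * f1)).resolve_left hne
    · exact (mul_eq_zero.1 (show ((M 0 0 - 1) * (M 1 1 - 1) - M 0 1 * M 1 0) * v 1 = 0 by
        linear_combination (M 0 0 - 1) * f1 - M 1 0 * f0)).resolve_left hne
  have hN : (M - 1) * (M - 1) = 0 := by
    ext i j
    fin_cases i <;> fin_cases j <;> simp [Matrix.mul_apply, Fin.sum_univ_two]
    · linear_combination -(M 0 0 - 1) * hd0 + (M 0 0 - 1) * hdet - hd0
    · linear_combination -M 0 1 * hd0 + M 0 1 * hdet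
    · linear_combination -M 1 0 * hd0 + M 1 0 * hdet
    · linear_combination -(M 1 1 - 1) * hd0 + (M 1 1 - 1) * hdet - hd0
  have hpow : ∀ n : ℕ, M ^ n = 1 + (n : F) • (M - 1) := by
    intro n
    induction n with
    | zero => simp
    | succ n ih =>
      rw [pow_succ, ih]
      calc (1 + (n : F) • (M - 1)) * M = (1 + (n : F) • (M - 1)) * (1 + (M - 1)) := by rw [add_sub_cancel]
        _ = 1 + ((n + 1 : ℕ) : F) • (M - 1) := by
          rw [add_mul, mul_add, mul_add, smul_mul_assoc, smul_mul_assoc, hN, smul_zero, mul_one, mul_one, one_mul,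
            Nat.cast_add, Nat.cast_one, add_smul, one_smul]
          abel
  refine Subtype.ext ?_
  rw [Matrix.SpecialLinearGroup.coe_pow, hpow r, ZMod.natCast_self, zero_smul, add_zero, Matrix.SpecialLinearGroup.coe_one]

end CfsgLib.GW.Dne.CubicSL
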