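import Cfsg.Agent.Lib.GW.Dne.Mixed.Cubic.Action
import Cfsg.Agent.Lib.GW.Dne.Mixed.Cubic.Matrix

/-!
# A mixed prime, extraspecial case: the image of `O(C(t))` in `SL(2, r)`
-/

set_option autoImplicit false

namespace CfsgLib.GW.Dne.CubicBasis

open Subgroup CfsgLib.GW
open scoped MatrixGroups
open CfsgLib.Signalizer (involution_sq involution_inv involution_ne_one orderOf_eq_two_of orderOf_conj)

universe u

variable {G : Type u} [Group G] [Finite G]
variable {σ : Hyp G} {t u₁ u₂ g₁ g₂ : G} {r : ℕ} {y w v : G} (B : CubicBasis σ t u₁ u₂ g₁ g₂ r y w v)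
include B

local notation "M₂" => Matrix (Fin 2) (Fin 2) (ZMod r)

theorem frame : Frame σ t u₁ u₂ g₁ g₂ := B.cubic.axis.mixed.frame

theorem ht : orderOf t = 2 := B.frame.ht

/-- `u` acts as `u₁` or trivially. -/
theorem u₂_acts : (∀ q ∈ rCore r t, u₂ * q * u₂⁻¹ = u₁ * q * u₁⁻¹) ∨ ∀ q ∈ rCore r t, u₂ * q * u₂⁻¹ = q :=
  B.cubic.side.imp (fun h => h.1) fun h q hq => conj_eq_of_commute (h.2 q hq).symm

theorem φ_reflect {u : G} (hu : orderOf u = 2) (hut : Commute u t)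
    (hact : ∀ q ∈ rCore r t, u * q * u⁻¹ = u₁ * q * u₁⁻¹) (h : U t) :
    (B.φ ⟨u * h * u⁻¹, conj_mem_U_of_commute hut h.2⟩ : M₂) = !![1, 0; 0, -1] * (B.φ h : M₂) * !![1, 0; 0, -1] := by
  have hn : u ∈ normalizer (rCore r t : Set G) :=
    centralizer_le_normalizer_rCore r t (mem_centralizer_of_commute hut)
  have hy : u * y * u⁻¹ = y := by rw [hact y B.cubic.y_mem, conj_eq_of_commute B.cubic.y_comm.symm]
  have hv : u * v * u⁻¹ = v⁻¹ := by rw [hact v B.v_mem, B.v_inv]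
  rw [B.φ_conj hn hut h, B.M_reflect hn hy hv, B.M_reflect (inv_mem hn) (by rw [involution_inv hu]; simpa [involution_inv hu] using hy)
    (by rw [involution_inv hu]; simpa [involution_inv hu] using hv)]

theorem φ_fixed {u : G} (hu : orderOf u = 2) (hut : Commute u t)
    (hact : ∀ q ∈ rCore r t, u * q * u⁻¹ = q) (h : U t) :
    (B.φ ⟨u * h * u⁻¹, conj_mem_U_of_commute hut h.2⟩ : M₂) = (B.φ h : M₂) := by
  have hn : u ∈ normalizer (rCore r t : Set G) :=
    centralizer_le_normalizer_rCore r t (mem_centralizer_of_commute hut)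
  rw [B.φ_conj hn hut h, B.M_trivial hn (hact y B.cubic.y_mem) (hact v B.v_mem),
    B.M_trivial (inv_mem hn) (by simpa [involution_inv hu] using hact y B.cubic.y_mem)
      (by simpa [involution_inv hu] using hact v B.v_mem), one_mul, mul_one]

omit B [Finite G] in
theorem reflect_entries (A : M₂) :
    !![1, 0; 0, -1] * A * !![1, 0; 0, -1] = !![A 0 0, -A 0 1; -A 1 0, A 1 1] := by
  ext i j
  fin_cases i <;> fin_cases j <;> simp [Matrix.mul_apply, Matrix.vecMul, dotProduct, Fin.sum_univ_two]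

omit B in
theorem eq_conj_of_fixed {u : G} {a b : U t} (hut : Commute u t) (h : (b : G) = u * a * u⁻¹) :
    b = ⟨u * a * u⁻¹, conj_mem_U_of_commute hut a.2⟩ := Subtype.ext h

theorem apply_u₁ (h : U t) :
    (B.φ ⟨u₁ * h * u₁⁻¹, conj_mem_U_of_commute B.frame.commute₁ h.2⟩ : M₂) = !![1, 0; 0, -1] * (B.φ h : M₂) * !![1, 0; 0, -1] :=
  B.φ_reflect B.frame.hu₁ B.frame.commute₁ (fun _ _ => rfl) h

theorem apply_u₂_diag (h : U t) (i : Fin 2) :
    (B.φ ⟨u₂ * h * u₂⁻¹, conj_mem_U_of_commute B.frame.commute₂ h.2⟩ : M₂) i i = (B.φ h : M₂) i i := by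
  rcases B.u₂_acts with hs | hs
  · rw [B.φ_reflect B.frame.hu₂ B.frame.commute₂ hs h, reflect_entries]
    fin_cases i <;> simp
  · rw [B.φ_fixed B.frame.hu₂ B.frame.commute₂ hs h]

theorem odd_range : Odd (Nat.card B.φ.range) :=
  (σ.odd_U B.ht).of_dvd_nat (card_range_dvd B.φ)

theorem moved_col : ∃ h : U t, (B.φ h : M₂) 1 0 ≠ 0 := by
  obtain ⟨h, hh, hne⟩ := B.cubic.moved
  refine ⟨⟨h, hh⟩, fun e => hne ?_⟩
  have := Fact.mk B.cubic.prime
  set n : normalizer (rCore r t : Set G) := ⟨h, U_le_normalizer_core hh⟩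
  have hq : h * y * h⁻¹ ∈ rCore r t := conj_mem_core (U_le_normalizer_core hh) B.cubic.y_mem
  have he : crd r y v w (h * y * h⁻¹) 1 = 0 := by
    have := B.M_col_y n 1
    change B.M n 1 0 = 0 at e
    rw [e] at this
    exact this.symm
  have hz := B.crd_spec hq
  rw [word, he, ZMod.val_zero, pow_zero, mul_one] at hz
  obtain ⟨k, hk⟩ := hz
  rw [show h * y * h⁻¹ = y ^ (crd r y v w (h * y * h⁻¹) 0).val * w ^ k by
    rw [show w ^ k = _ from hk, mul_inv_cancel_left]]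
  exact ((Commute.refl y).pow_left _).mul_left (B.cubic.axis.commute_yw.symm.zpow_left k)

/-- The line of `v` is not invariant. -/
theorem not_lower (hL : NoFixedLinear G) : ¬ ∀ h : U t, (B.φ h : M₂) 0 1 = 0 := by
  intro hlow
  have := Fact.mk B.cubic.prime
  let a : U t →* ZMod r :=
    { toFun := fun h => (B.φ h : M₂) 0 0
      map_one' := by simp
      map_mul' := fun h k => by
        rw [map_mul, Matrix.SpecialLinearGroup.coe_mul, Matrix.mul_apply, Fin.sum_univ_two, hlow h, zero_mul, add_zero] }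
  have ha : ∀ h, a.toHomUnits h = 1 := by
    refine eq_one_of_fixed hL B.frame a.toHomUnits (fun _ _ => mul_comm _ _) ?_ ?_
    · intro h k hk
      refine Units.ext ?_
      show (B.φ k : M₂) 0 0 = (B.φ h : M₂) 0 0
      rw [eq_conj_of_fixed B.frame.commute₁ hk, B.apply_u₁, reflect_entries]
      simp
    · intro h k hk
      refine Units.ext ?_
      show (B.φ k : M₂) 0 0 = (B.φ h : M₂) 0 0
      rw [eq_conj_of_fixed B.frame.commute₂ hk, B.apply_u₂_diag]
  have hzmem : ∀ h : U t, (h : G) * v * (h : G)⁻¹ * v⁻¹ ∈ zpowers w := by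
    intro h
    have h00 : (B.φ h : M₂) 0 0 = 1 := congrArg Units.val (ha h)
    have hd : (B.φ h : M₂) 1 1 = 1 := by
      have := (B.φ h).2
      rw [Matrix.det_fin_two, hlow h, h00] at this
      simpa using this
    have hq : (h : G) * v * (h : G)⁻¹ ∈ rCore r t := conj_mem_core (U_le_normalizer_core h.2) B.v_mem
    have hcrd : crd r y v w ((h : G) * v * (h : G)⁻¹) = crd r y v w v := by
      rw [← B.φ_mulVec h B.v_mem, B.crd_v, Matrix.mulVec_single_one]
      funext i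
      fin_cases i
      · simpa using hlow h
      · simpa using hd
    rw [← B.crd_eq_zero_iff (mul_mem hq (inv_mem B.v_mem)), B.crd_mul hq (inv_mem B.v_mem),
      B.crd_inv B.v_mem, hcrd, add_neg_cancel]
  let ψ : U t →* zpowers w :=
    { toFun := fun h => ⟨_, hzmem h⟩
      map_one' := Subtype.ext (by simp)
      map_mul' := fun h k => Subtype.ext (by
        show (h : G) * k * v * ((h : G) * k)⁻¹ * v⁻¹ = (h : G) * v * (h : G)⁻¹ * v⁻¹ * ((k : G) * v * (k : G)⁻¹ * v⁻¹)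
        obtain ⟨n, hn⟩ := hzmem k
        have hc : Commute (h : G) (w ^ n) := (B.cubic.w_U h h.2).zpow_right n
        have hc' := (((B.cubic.mem_center_iff').1 (hzmem h)).2 _ (zpow_mem B.cubic.w_mem n))
        rw [show (k : G) * v * (k : G)⁻¹ * v⁻¹ = w ^ n from hn.symm, ← hc'.eq]
        calc (h : G) * k * v * ((h : G) * k)⁻¹ * v⁻¹ = (h : G) * ((k : G) * v * (k : G)⁻¹ * v⁻¹) * v * (h : G)⁻¹ * v⁻¹ := by group
          _ = w ^ n * ((h : G) * v * (h : G)⁻¹ * v⁻¹) := by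
            rw [show (k : G) * v * (k : G)⁻¹ * v⁻¹ = w ^ n from hn.symm, hc.eq]; group) }
  have hval : ∀ h : U t, ((ψ h : zpowers w) : G) = (h : G) * v * (h : G)⁻¹ * v⁻¹ := fun _ => rfl
  have hψ : ∀ h, ψ h = 1 := by
    refine eq_one_of_fixed hL B.frame ψ (fun a b => ?_) ?_ ?_
    · obtain ⟨i, hi⟩ := (ψ a).2
      obtain ⟨j, hj⟩ := (ψ b).2
      refine Subtype.ext ?_
      show ((ψ a : zpowers w) : G) * (ψ b : G) = (ψ b : G) * (ψ a : G)
      rw [← hi, ← hj]
      exact (Commute.refl w).zpow_zpow i j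
    · intro h k hk
      refine Subtype.ext ?_
      rw [hval, hval, hk]
      obtain ⟨n, hn⟩ := hzmem h
      have hc := ((B.cubic.mem_center_iff').1 (⟨n, rfl⟩ : w ^ n ∈ zpowers w)).2 v B.v_mem
      have huv : u₁ * v⁻¹ * u₁⁻¹ = v := by rw [show u₁ * v⁻¹ * u₁⁻¹ = (u₁ * v * u₁⁻¹)⁻¹ by group, B.v_inv, inv_inv]
      have hwn : u₁ * w ^ n * u₁⁻¹ = (w ^ n)⁻¹ := inverted_zpow B.cubic.axis.w_inv n
      rw [show (h : G) * v * (h : G)⁻¹ * v⁻¹ = w ^ n from hn.symm]
      calc u₁ * h * u₁⁻¹ * v * (u₁ * h * u₁⁻¹)⁻¹ * v⁻¹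
          = u₁ * ((h : G) * (u₁⁻¹ * v * u₁) * (h : G)⁻¹) * u₁⁻¹ * v⁻¹ := by group
        _ = u₁ * ((h : G) * v * (h : G)⁻¹)⁻¹ * u₁⁻¹ * v⁻¹ := by
          rw [show u₁⁻¹ * v * u₁ = v⁻¹ by rw [involution_inv B.frame.hu₁]; simpa [involution_inv B.frame.hu₁] using B.v_inv]
          group
        _ = (u₁ * v⁻¹ * u₁⁻¹) * (u₁ * w ^ n * u₁⁻¹)⁻¹ * v⁻¹ := by
          rw [show (h : G) * v * (h : G)⁻¹ = w ^ n * v by rw [show w ^ n = _ from hn]; group]; group
        _ = w ^ n := by rw [huv, hwn, inv_inv, hc.eq, mul_inv_cancel_right]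
    · intro h k hk
      refine Subtype.ext ?_
      rw [hval, hval, hk]
      obtain ⟨n, hn⟩ := hzmem h
      rw [show (h : G) * v * (h : G)⁻¹ * v⁻¹ = w ^ n from hn.symm]
      have hu2 := involution_inv B.frame.hu₂
      have hwn : w ^ n ∈ rCore r t := zpow_mem B.cubic.w_mem n
      rcases B.u₂_acts with hs | hs
      · have hv' : u₂ * v⁻¹ * u₂⁻¹ = v := by rw [hs _ (inv_mem B.v_mem), show u₁ * v⁻¹ * u₁⁻¹ = (u₁ * v * u₁⁻¹)⁻¹ by group, B.v_inv, inv_inv]
        have hw' : u₂ * w ^ n * u₂⁻¹ = (w ^ n)⁻¹ := (hs _ hwn).trans (inverted_zpow B.cubic.axis.w_inv n)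
        have hc := ((B.cubic.mem_center_iff').1 (⟨n, rfl⟩ : w ^ n ∈ zpowers w)).2 v B.v_mem
        calc u₂ * h * u₂⁻¹ * v * (u₂ * h * u₂⁻¹)⁻¹ * v⁻¹
            = u₂ * ((h : G) * (u₂⁻¹ * v * u₂) * (h : G)⁻¹) * u₂⁻¹ * v⁻¹ := by group
          _ = u₂ * ((h : G) * v * (h : G)⁻¹)⁻¹ * u₂⁻¹ * v⁻¹ := by
            rw [show u₂⁻¹ * v * u₂ = v⁻¹ by
              have := (hs v B.v_mem).trans B.v_inv
              rw [hu2]; simpa [hu2] using this]
            group
          _ = (u₂ * v⁻¹ * u₂⁻¹) * (u₂ * w ^ n * u₂⁻¹)⁻¹ * v⁻¹ := by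
            rw [show (h : G) * v * (h : G)⁻¹ = w ^ n * v by rw [show w ^ n = _ from hn]; group]; group
          _ = w ^ n := by rw [hv', hw', inv_inv, hc.eq, mul_inv_cancel_right]
      · calc u₂ * h * u₂⁻¹ * v * (u₂ * h * u₂⁻¹)⁻¹ * v⁻¹
            = u₂ * ((h : G) * (u₂⁻¹ * v * u₂) * (h : G)⁻¹) * u₂⁻¹ * v⁻¹ := by group
          _ = (u₂ * w ^ n * u₂⁻¹) * (u₂ * v * u₂⁻¹) * v⁻¹ := by
            rw [show u₂⁻¹ * v * u₂ = v by rw [hu2]; simpa [hu2] using hs v B.v_mem,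
              show (h : G) * v * (h : G)⁻¹ = w ^ n * v by rw [show w ^ n = _ from hn]; group]
            group
          _ = w ^ n := by rw [hs _ hwn, hs v B.v_mem, mul_inv_cancel_right]
  have hy := congrArg Subtype.val (hψ ⟨y, rCore_le r t B.cubic.y_mem⟩)
  rw [hval] at hy
  refine B.comm_ne ?_
  rw [show v * y * v⁻¹ * y⁻¹ = (y * v * y⁻¹ * v⁻¹)⁻¹ by group]
  exact inv_eq_one.2 hy

theorem range_facts (hL : NoFixedLinear G) :
    ¬ r ∣ Nat.card B.φ.range ∧ (∀ a b : U t, Commute (B.φ a) (B.φ b)) ∧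
      (Nat.card B.φ.range ∣ r + 1 ∨ Nat.card B.φ.range ∣ r - 1) ∧ 5 ≤ r := by
  have := Fact.mk B.cubic.prime
  have hr2 := B.cubic.axis.mixed.ne_two
  rcases CubicSL.odd_cases hr2 B.φ.range B.odd_range with ⟨hnd, hc, hd, h3⟩ | ⟨hdvd, x, hx, hxe⟩
  · refine ⟨hnd, fun a b => hc _ ⟨a, rfl⟩ _ ⟨b, rfl⟩, hd, ?_⟩
    by_contra h5
    have hr := B.cubic.prime
    have hr3 : r = 3 := by
      have := hr.two_le
      rcases (show r = 3 ∨ r = 4 by omega) with e | e
      · exact e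
      · rw [e] at hr; exact absurd hr (by decide)
    obtain ⟨h, hh⟩ := B.moved_col
    have : Subsingleton B.φ.range := (Nat.card_eq_one_iff_unique.1 (h3 hr3)).1
    have he : B.φ h = 1 := congrArg Subtype.val (Subsingleton.elim (⟨_, ⟨h, rfl⟩⟩ : B.φ.range) 1)
    exact hh (by rw [he]; simp)
  · exfalso
    rcases CubicSL.axis_of_eigen hr2 B.φ.range hdvd hx hxe (by
      rintro _ ⟨h, rfl⟩
      refine ⟨_, ⟨⟨u₁ * h * u₁⁻¹, conj_mem_U_of_commute B.frame.commute₁ h.2⟩, rfl⟩, ?_, ?_, ?_, ?_⟩ <;>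
        rw [B.apply_u₁, reflect_entries] <;> simp) with h10 | h01
    · obtain ⟨h, hh⟩ := B.moved_col
      exact hh (h10 _ ⟨h, rfl⟩)
    · exact B.not_lower hL fun h => h01 _ ⟨h, rfl⟩

/-- Both reflections invert the image (in the second case `r = 3` is excluded). -/
theorem side_one (hL : NoFixedLinear G) :
    (∀ q ∈ rCore r t, u₂ * q * u₂⁻¹ = u₁ * q * u₁⁻¹) ∧ Commute g₂ y :=
  B.cubic.side.resolve_right fun h => by
    have := (B.range_facts hL).2.2.2
    omega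

theorem φ_inverted (hL : NoFixedLinear G) {u : G} (hu : orderOf u = 2) (hut : Commute u t)
    (hact : ∀ q ∈ rCore r t, u * q * u⁻¹ = u₁ * q * u₁⁻¹) (h : U t) :
    B.φ ⟨u * h * u⁻¹, conj_mem_U_of_commute hut h.2⟩ * B.φ h = 1 := by
  have hcom := (B.range_facts hL).2.1
  have hs := (B.side_one hL).1
  let c : U t → U t := fun h => ⟨u₁ * h * u₁⁻¹, conj_mem_U_of_commute B.frame.commute₁ h.2⟩
  have hcmul : ∀ a b, c (a * b) = c a * c b := fun a b => Subtype.ext (by simp [c, mul_assoc])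
  let ψ : U t →* SL(2, ZMod r) :=
    { toFun := fun h => B.φ (c h) * B.φ h
      map_one' := by
        rw [show c 1 = 1 from Subtype.ext (by simp [c]), map_one, mul_one]
      map_mul' := fun a b => by
        rw [hcmul, map_mul, map_mul, mul_assoc, ← mul_assoc (B.φ (c b)), (hcom (c b) a).eq, mul_assoc, mul_assoc] }
  have hψ : ∀ h, ψ h = 1 := by
    refine eq_one_of_fixed hL B.frame ψ (fun a b => ?_) ?_ ?_
    · show B.φ (c a) * B.φ a * (B.φ (c b) * B.φ b) = B.φ (c b) * B.φ b * (B.φ (c a) * B.φ a)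
      rw [← map_mul, ← map_mul, (hcom _ _).eq]
    · intro a b hab
      show B.φ (c b) * B.φ b = B.φ (c a) * B.φ a
      rw [show b = c a from Subtype.ext hab, show c (c a) = a from Subtype.ext (conj_conj_involution B.frame.hu₁),
        (hcom a (c a)).eq]
    · intro a b hab
      show B.φ (c b) * B.φ b = B.φ (c a) * B.φ a
      have e1 : B.φ b = B.φ (c a) := Subtype.ext (by
        rw [eq_conj_of_fixed B.frame.commute₂ hab, B.φ_reflect B.frame.hu₂ B.frame.commute₂ hs,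
          B.apply_u₁])
      have e2 : B.φ (c b) = B.φ a := Subtype.ext (by
        rw [B.apply_u₁, e1, B.apply_u₁, reflect_entries, reflect_entries]
        simp [← Matrix.eta_fin_two])
      rw [e1, e2, (hcom a (c a)).eq]
  have := hψ h
  rw [show B.φ ⟨u * h * u⁻¹, conj_mem_U_of_commute hut h.2⟩ = B.φ (c h) from Subtype.ext (by
    rw [B.φ_reflect hu hut hact, B.apply_u₁])]
  exact this

theorem eq_one_of_fix (hL : NoFixedLinear G) {h : U t} {q : G} (hq : q ∈ rCore r t) (hq' : q ∉ zpowers w)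
    (hc : crd r y v w ((h : G) * q * (h : G)⁻¹) = crd r y v w q) : B.φ h = 1 := by
  have := Fact.mk B.cubic.prime
  have h1 : B.φ h ^ r = 1 := CubicSL.pow_eq_one_of_fix (fun e => hq' ((B.crd_eq_zero_iff hq).1 e))
    ((B.φ_mulVec h hq).trans hc)
  have h2 : orderOf (⟨B.φ h, ⟨h, rfl⟩⟩ : B.φ.range) ∣ Nat.card B.φ.range := orderOf_dvd_natCard _
  rw [← Subgroup.orderOf_coe] at h2
  change orderOf (B.φ h) ∣ _ at h2
  rcases (Nat.dvd_prime B.cubic.prime).1 (orderOf_dvd_of_pow_eq_one h1) with e | e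
  · exact orderOf_eq_one_iff.1 e
  · refine absurd ?_ (B.range_facts hL).1
    generalize orderOf (B.φ h) = d at e h2
    subst e
    exact h2

end CfsgLib.GW.Dne.CubicBasis
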